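import Mathlib.Tactic.FieldSimp
import Mathlib.Tactic.Ring
import Mathlib.Tactic.Linarith
import Mathlib.Tactic.LinearCombination
import Mathlib.Algebra.Field.Rat
import Mathlib.Algebra.Order.Field.Rat
import Mathlib.Data.Rat.Cast.Lemmas

/-!
The algebra of the rank two forms.
-/

set_option autoImplicit false

namespace Cfsg.Agent.NineD8.Core

/-- From a rank two form with prescribed matrix to norms in the adjugate matrix. -/
theorem gram {b A B u1 u2 w1 w2 g m11 m12 m22 : ℚ} (hA : A ≠ 0) (hB : B ≠ 0)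
    (hC : b + A + B ≠ 0) (hg : g ≠ 0)
    (h11 : u1 * u1 / A + w1 * w1 / B - (u1 + w1) * (u1 + w1) / (b + A + B) = g * m11)
    (h12 : u1 * u2 / A + w1 * w2 / B - (u1 + w1) * (u2 + w2) / (b + A + B) = g * m12)
    (h22 : u2 * u2 / A + w2 * w2 / B - (u2 + w2) * (u2 + w2) / (b + A + B) = g * m22) :
    b * (m22 * u1 * u1 - 2 * m12 * u1 * u2 + m11 * u2 * u2) =
        g * (m11 * m22 - m12 * m12) * A * (A + b) ∧
      b * (m22 * u1 * w1 - m12 * (u1 * w2 + u2 * w1) + m11 * u2 * w2) =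
        g * (m11 * m22 - m12 * m12) * A * B ∧
      b * (m22 * w1 * w1 - 2 * m12 * w1 * w2 + m11 * w2 * w2) =
        g * (m11 * m22 - m12 * m12) * B * (B + b) := by
  refine ⟨?_, ?_, ?_⟩ <;> apply mul_left_cancel₀ hg
  · rw [show g * (b * (m22 * u1 * u1 - 2 * m12 * u1 * u2 + m11 * u2 * u2)) =
        b * (g * m22 * u1 * u1 - 2 * (g * m12) * u1 * u2 + g * m11 * u2 * u2) by ring,
      show g * (g * (m11 * m22 - m12 * m12) * A * (A + b)) =
        (g * m11 * (g * m22) - g * m12 * (g * m12)) * A * (A + b) by ring, ← h11, ← h12, ← h22]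
    field_simp
    ring
  · rw [show g * (b * (m22 * u1 * w1 - m12 * (u1 * w2 + u2 * w1) + m11 * u2 * w2)) =
        b * (g * m22 * u1 * w1 - g * m12 * (u1 * w2 + u2 * w1) + g * m11 * u2 * w2) by ring,
      show g * (g * (m11 * m22 - m12 * m12) * A * B) =
        (g * m11 * (g * m22) - g * m12 * (g * m12)) * A * B by ring, ← h11, ← h12, ← h22]
    field_simp
    ring
  · rw [show g * (b * (m22 * w1 * w1 - 2 * m12 * w1 * w2 + m11 * w2 * w2)) =
        b * (g * m22 * w1 * w1 - 2 * (g * m12) * w1 * w2 + g * m11 * w2 * w2) by ring,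
      show g * (g * (m11 * m22 - m12 * m12) * B * (B + b)) =
        (g * m11 * (g * m22) - g * m12 * (g * m12)) * B * (B + b) by ring, ← h11, ← h12, ← h22]
    field_simp
    ring

/-- The line through a constituent in the unfused case. -/
theorem lineA {P L a b : ℚ} (hP : P ≠ 0) (hn : P + 1 ≠ 0) (hL : L ≠ 0) (hX : 1 + L + P ≠ 0)
    (e1 : 2 * a + b = 3 * L / (P + 1))
    (e2 : 2 * a ^ 2 + b ^ 2 = 3 * L * (L + 1) / (P * (P + 1)))
    (e3 : (a - L / P) ^ 2 + 2 * (b - L / P) ^ 2 = 3 * L * (L + P) / (P ^ 2 * (P + 1))) :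
    (P - 8) * L = -P * (P + 1) ∧ a = (3 * L / (P + 1) - 1) / 4 ∧ b = 2 * a + 1 := by
  have hd : (3 * L / (2 * P * (P + 1))) * (2 * a - b + 1) = 0 := by
    linear_combination (norm := (field_simp; ring))
      -(3 / 2 : ℚ) * e2 + e3 + ((2 * a - b) / 2 + 5 * L / (2 * P)) * e1
  have hc : 3 * L / (2 * P * (P + 1)) ≠ 0 := by
    simp [hP, hn, hL]
  have hb : b = 2 * a + 1 := by linarith [(mul_eq_zero.mp hd).resolve_left hc]
  have ha : a = (3 * L / (P + 1) - 1) / 4 := by linarith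
  refine ⟨?_, ha, hb⟩
  have hq : (3 * L / (P + 1) + 3) * ((P - 8) * (3 * L / (P + 1)) + 3 * P) = 0 := by
    rw [hb, ha] at e2
    linear_combination (norm := (field_simp; ring)) 24 * P * e2
  have h1 : 3 * L / (P + 1) + 3 ≠ 0 := by
    rw [show 3 * L / (P + 1) + 3 = 3 * (1 + L + P) / (P + 1) by field_simp; ring]
    simp [hX, hn]
  have h2 := (mul_eq_zero.mp hq).resolve_left h1
  field_simp at h2
  linear_combination (1 / 3 : ℚ) * h2

/-- The unfused case gives a constituent of degree one. -/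
theorem caseA {P L Q S x u v c e X Y h : ℚ} (hP : P ≠ 0) (hL : L ≠ 0) (hQ : Q ≠ 0) (hS : S ≠ 0)
    (hX3 : 1 + L + P ≠ 0) (hX7 : 1 + P + Q ≠ 0) (hh : h ≠ 0)
    (p1 : 3 * x ^ 2 = h * P * (P + 1))
    (l1 : x * (2 * u + v) = h * L * P) (l2 : 2 * u ^ 2 + v ^ 2 = h * L * (L + 1))
    (l3 : (u - L * x / P) ^ 2 + 2 * (v - L * x / P) ^ 2 = h * L * (L + P) / P)
    (q1 : x * (c + 2 * e) = h * P * Q) (q2 : c ^ 2 + 2 * e ^ 2 = h * Q * (Q + 1))
    (q3 : 2 * (c - Q * x / P) ^ 2 + (e - Q * x / P) ^ 2 = h * Q * (Q + P) / P)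
    (s1 : 2 * X ^ 2 + Y ^ 2 = h * S * (S + P) / P) (s2 : X ^ 2 + 2 * Y ^ 2 = h * S * (S + P) / P)
    (s3 : 2 * X * (c - Q * x / P) + Y * (e - Q * x / P) = h * Q * S / P)
    (s4 : X * (u - L * x / P) + 2 * Y * (v - L * x / P) = h * L * S / P) : S = 1 := by
  have hx : x ≠ 0 := fun e0 => by
    rw [e0, zero_mul] at l1
    exact mul_ne_zero (mul_ne_zero hh hL) hP l1.symm
  have hn : P + 1 ≠ 0 := fun e0 => by
    rw [e0, mul_zero] at p1
    exact hx ((pow_eq_zero_iff two_ne_zero).mp (by linarith))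
  obtain ⟨a, rfl⟩ : ∃ a, u = x * a := ⟨u / x, by field_simp⟩
  obtain ⟨b, rfl⟩ : ∃ b, v = x * b := ⟨v / x, by field_simp⟩
  obtain ⟨a', rfl⟩ : ∃ a', e = x * a' := ⟨e / x, by field_simp⟩
  obtain ⟨b', rfl⟩ : ∃ b', c = x * b' := ⟨c / x, by field_simp⟩
  have hval : h = 3 * x ^ 2 / (P * (P + 1)) := by
    field_simp
    linear_combination -p1
  subst hval
  have hx2 : x ^ 2 ≠ 0 := pow_ne_zero 2 hx
  obtain ⟨f1, fa, fb⟩ := lineA hP hn hL hX3 (a := a) (b := b)
    (mul_left_cancel₀ hx2 (by linear_combination (norm := (field_simp; ring)) l1))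
    (mul_left_cancel₀ hx2 (by linear_combination (norm := (field_simp; ring)) l2))
    (mul_left_cancel₀ hx2 (by linear_combination (norm := (field_simp; ring)) l3))
  obtain ⟨f1', fa', fb'⟩ := lineA hP hn hQ (by rwa [add_right_comm]) (a := a') (b := b')
    (mul_left_cancel₀ hx2 (by linear_combination (norm := (field_simp; ring)) q1))
    (mul_left_cancel₀ hx2 (by linear_combination (norm := (field_simp; ring)) q2))
    (mul_left_cancel₀ hx2 (by linear_combination (norm := (field_simp; ring)) q3))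
  have h8 : P - 8 ≠ 0 := fun e0 => by
    rw [e0, zero_mul, eq_comm, neg_mul, neg_eq_zero] at f1
    exact mul_ne_zero hP hn f1
  have hQL : Q = L := mul_left_cancel₀ h8 (f1'.trans f1.symm)
  subst hQL
  have ea : a' = a := fa'.trans fa.symm
  subst ea
  have eb : b' = b := fb'.trans fb.symm
  subst eb
  have hYX : Y = X ∨ Y = -X := sq_eq_sq_iff_eq_or_eq_neg.mp (by linarith)
  have hne : 3 * x ^ 2 / (P * (P + 1)) * Q * S / P ≠ 0 := by
    simp [hx, hP, hn, hQ, hS]
  rcases hYX with rfl | rfl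
  swap
  · exfalso
    apply hne
    linarith
  have hsum : a' + 2 * b' - 3 * (Q / P) = 3 * Q / ((P + 1) * P) := by
    rw [fb, fa]
    linear_combination (norm := (field_simp; ring)) (3 / (4 * P * (P + 1))) * f1
  have hXv : Y = x * S / P := by
    have h1 : Y * x * (3 * Q / ((P + 1) * P)) = 3 * x ^ 2 / (P * (P + 1)) * Q * S / P := by
      rw [← hsum]
      linear_combination (norm := (field_simp; ring)) s4
    field_simp at h1 ⊢
    linear_combination h1
  rw [hXv] at s1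
  field_simp at s1
  have : P * (S - 1) = 0 := by linear_combination (1 / 3 : ℚ) * s1
  simpa [mul_eq_zero, hP, sub_eq_zero] using this

/-- The first line in the fused case. -/
theorem lineL {P L a b : ℚ} (hP : P ≠ 0) (hn : P + 1 ≠ 0) (hL : L ≠ 0)
    (e1 : b - a = 3 * L / (P + 1))
    (e2 : 11 * a ^ 2 - 6 * a * b + b ^ 2 = 3 * L * (L + 1) / (P * (P + 1)))
    (e3 : (a - L / P) ^ 2 + (b - 4 * (L / P)) ^ 2 / 2 = 3 * L * (L + P) / (P ^ 2 * (P + 1))) :
    (L * (9 * P - 8) + 9 * P * (P + 1)) * (L * (P - 8) + P * (P + 1)) = 0 ∧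
      8 * P * (P + 1) * a = (5 * P + 8) * L - 3 * P * (P + 1) := by
  obtain rfl : b = a + 3 * L / (P + 1) := by linarith
  have hd : (3 * L / (P ^ 2 * (P + 1) ^ 2)) *
      (8 * P * (P + 1) * a - ((5 * P + 8) * L - 3 * P * (P + 1))) = 0 := by
    linear_combination (norm := (field_simp; ring)) e2 - 4 * e3
  have hc : 3 * L / (P ^ 2 * (P + 1) ^ 2) ≠ 0 := by simp [hP, hn, hL]
  have ha := sub_eq_zero.mp ((mul_eq_zero.mp hd).resolve_left hc)
  refine ⟨?_, ha⟩
  have ha' : a = ((5 * P + 8) * L - 3 * P * (P + 1)) / (8 * P * (P + 1)) := by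
    rw [← ha]
    field_simp
  rw [ha'] at e2
  linear_combination (norm := (field_simp; ring)) (32 * P ^ 2 * (P + 1) ^ 2 / 3) * e2

/-- The second line in the fused case. -/
theorem lineQ {P Q c e : ℚ} (hP : P ≠ 0) (hn : P + 1 ≠ 0) (hQ : Q ≠ 0)
    (e1 : c + e / 2 = 3 * Q / (P + 1))
    (e2 : c ^ 2 + e ^ 2 / 8 = 3 * Q * (Q + 1) / (P * (P + 1)))
    (e3 : 11 * (c - Q / P) ^ 2 + 6 * (c - Q / P) * (e - 4 * (Q / P)) + (e - 4 * (Q / P)) ^ 2 =
      3 * Q * (Q + P) / (P ^ 2 * (P + 1))) :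
    (Q * (P - 32) + P * (P + 1)) * (Q * (P - 8) + P * (P + 1)) = 0 ∧
      6 * P * (P + 1) * c = (7 * P + 16) * Q + P * (P + 1) := by
  obtain rfl : e = 2 * (3 * Q / (P + 1) - c) := by linarith
  have hd : (3 * Q / (P ^ 2 * (P + 1) ^ 2)) *
      (6 * P * (P + 1) * c - ((7 * P + 16) * Q + P * (P + 1))) = 0 := by
    linear_combination (norm := (field_simp; ring)) 2 * e2 - e3
  have hc : 3 * Q / (P ^ 2 * (P + 1) ^ 2) ≠ 0 := by simp [hP, hn, hQ]
  have hc' := sub_eq_zero.mp ((mul_eq_zero.mp hd).resolve_left hc)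
  refine ⟨?_, hc'⟩
  have hval : c = ((7 * P + 16) * Q + P * (P + 1)) / (6 * P * (P + 1)) := by
    rw [← hc']
    field_simp
  rw [hval] at e2
  linear_combination (norm := (field_simp; ring)) (24 * P ^ 2 * (P + 1) ^ 2) * e2

/-- The fused case gives a constituent of degree one. -/
theorem caseB {P L Q S : ℤ} {x u v c e X Y h : ℚ} (cP : P % 9 = 2) (cL : L % 9 = 1) (cQ : Q % 9 = 1)
    (cS : S % 9 = 1) (hh : h ≠ 0)
    (p1 : 3 * x ^ 2 = h * P * (P + 1))
    (l1 : x * (v - u) = h * L * P) (l2 : 11 * u ^ 2 - 6 * u * v + v ^ 2 = h * L * (L + 1))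
    (l3 : (u - L * x / P) ^ 2 + (v - L * (4 * x) / P) ^ 2 / 2 = h * L * (L + P) / P)
    (q1 : x * (c + e / 2) = h * P * Q) (q2 : c ^ 2 + e ^ 2 / 8 = h * Q * (Q + 1))
    (q3 : 11 * (c - Q * x / P) ^ 2 + 6 * (c - Q * x / P) * (e - Q * (4 * x) / P) +
      (e - Q * (4 * x) / P) ^ 2 = h * Q * (Q + P) / P)
    (s1 : 11 * X ^ 2 + 6 * X * Y + Y ^ 2 = h * S * (S + P) / P)
    (s2 : X ^ 2 + Y ^ 2 / 2 = h * S * (S + P) / P)
    (s4 : (u - L * x / P) * X + (v - L * (4 * x) / P) * Y / 2 = h * L * S / P) : S = 1 := by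
  have hP : (P : ℚ) ≠ 0 := by
    have : P ≠ 0 := by omega
    exact_mod_cast this
  have hL : (L : ℚ) ≠ 0 := by
    have : L ≠ 0 := by omega
    exact_mod_cast this
  have hQ : (Q : ℚ) ≠ 0 := by
    have : Q ≠ 0 := by omega
    exact_mod_cast this
  have hS : (S : ℚ) ≠ 0 := by
    have : S ≠ 0 := by omega
    exact_mod_cast this
  have hn : (P : ℚ) + 1 ≠ 0 := by
    have : P + 1 ≠ 0 := by omega
    exact_mod_cast this
  have hx : x ≠ 0 := fun e0 => by
    rw [e0, zero_mul] at l1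
    exact mul_ne_zero (mul_ne_zero hh hL) hP l1.symm
  obtain ⟨a, rfl⟩ : ∃ a, u = x * a := ⟨u / x, by field_simp⟩
  obtain ⟨b, rfl⟩ : ∃ b, v = x * b := ⟨v / x, by field_simp⟩
  obtain ⟨c', rfl⟩ : ∃ c', c = x * c' := ⟨c / x, by field_simp⟩
  obtain ⟨e', rfl⟩ : ∃ e', e = x * e' := ⟨e / x, by field_simp⟩
  have hval : h = 3 * x ^ 2 / (P * (P + 1)) := by
    field_simp
    linear_combination -p1
  subst hval
  have hx2 : x ^ 2 ≠ 0 := pow_ne_zero 2 hx
  have g1 : b - a = 3 * L / (P + 1) :=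
    mul_left_cancel₀ hx2 (by linear_combination (norm := (field_simp; ring)) l1)
  obtain ⟨fL, fa⟩ := lineL hP hn hL g1
    (mul_left_cancel₀ hx2 (by linear_combination (norm := (field_simp; ring)) l2))
    (mul_left_cancel₀ hx2 (by linear_combination (norm := (field_simp; ring)) l3))
  obtain ⟨fQ, fc⟩ := lineQ hP hn hQ (c := c') (e := e')
    (mul_left_cancel₀ hx2 (by linear_combination (norm := (field_simp; ring)) q1))
    (mul_left_cancel₀ hx2 (by linear_combination (norm := (field_simp; ring)) q2))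
    (mul_left_cancel₀ hx2 (by linear_combination (norm := (field_simp; ring)) q3))
  obtain ⟨i, hi⟩ : ∃ i, P = 9 * i + 2 := ⟨P / 9, by omega⟩
  obtain ⟨j, hj⟩ : ∃ j, L = 9 * j + 1 := ⟨L / 9, by omega⟩
  have fL' : L * (P - 8) + P * (P + 1) = 0 := by
    have : (L * (9 * P - 8) + 9 * P * (P + 1)) * (L * (P - 8) + P * (P + 1)) = 0 := by
      exact_mod_cast fL
    refine (mul_eq_zero.mp this).resolve_left fun e0 => ?_
    rw [hi, hj] at e0
    ring_nf at e0
    omega
  have hd : (a + 4 * 0) * ((P : ℚ) - 8) = 2 - P := by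
    have f : (L : ℚ) * (P - 8) + P * (P + 1) = 0 := by exact_mod_cast fL'
    have : 8 * P * (P + 1 : ℚ) * ((a + 4 * 0) * (P - 8) - (2 - P)) = 0 := by
      linear_combination ((P : ℚ) - 8) * fa + (5 * (P : ℚ) + 8) * f
    simpa [mul_eq_zero, hP, hn, sub_eq_zero] using this
  simp only [mul_zero, add_zero] at hd
  have f : (L : ℚ) * (P - 8) + P * (P + 1) = 0 := by exact_mod_cast fL'
  have h8 : (P : ℚ) - 8 ≠ 0 := fun e0 => by
    rw [e0, mul_zero, zero_add] at f
    exact mul_ne_zero hP hn f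
  have hXY : X + Y = -(x * S / P) := by
    have hA : (a - L / P) * ((P : ℚ) - 8) = 3 := by
      linear_combination (norm := (field_simp; ring)) hd - (1 / (P : ℚ)) * f
    have hB : (b - 4 * (L / P)) * ((P : ℚ) - 8) = 6 := by
      have : b = a + 3 * L / (P + 1) := by linarith
      rw [this]
      linear_combination (norm := (field_simp; ring))
        hd + (3 / ((P : ℚ) + 1) - 4 / (P : ℚ)) * f
    have hs : x * (3 * (X + Y)) = 3 * x ^ 2 / (P * (P + 1)) * L * S / P * ((P : ℚ) - 8) := by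
      linear_combination (norm := (field_simp; ring))
        ((P : ℚ) - 8) * s4 - x * X * hA - (x * Y / 2) * hB
    have h2 : x * (3 * (X + Y)) = x * (3 * -(x * S / P)) := by
      rw [hs]
      linear_combination (norm := (field_simp; ring)) (3 * x ^ 2 * S / ((P : ℚ) ^ 2 * (P + 1))) * f
    exact mul_left_cancel₀ (by norm_num : (3 : ℚ) ≠ 0) (mul_left_cancel₀ hx h2)
  have hfac : (Y + 2 * X) * (Y + 10 * X) = 0 := by linear_combination 2 * s1 - 2 * s2
  rcases mul_eq_zero.mp hfac with hY | hY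
  · obtain rfl : Y = -2 * X := by linarith
    have hXv : X = x * S / P := by linarith
    rw [hXv] at s2
    field_simp at s2
    have : (P : ℚ) * ((S : ℚ) - 1) = 0 := by linear_combination (1 / 3 : ℚ) * s2
    have h1 : ((S : ℚ) - 1) = 0 := by simpa [mul_eq_zero, hP] using this
    exact_mod_cast sub_eq_zero.mp h1
  · exfalso
    obtain rfl : Y = -10 * X := by linarith
    have hXv : X = x * S / (9 * P) := by
      field_simp
      field_simp at hXY
      linear_combination -hXY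
    rw [hXv] at s2
    have h17 : 17 * (S : ℚ) * (P + 1) = 81 * S + 81 * P := by
      have : (x ^ 2 * S / (27 * (P : ℚ) ^ 2 * (P + 1))) *
          (17 * (S : ℚ) * (P + 1) - (81 * S + 81 * P)) = 0 := by
        linear_combination (norm := (field_simp; ring)) s2
      simpa [mul_eq_zero, hx, hS, hP, hn, sub_eq_zero] using this
    have h17' : 17 * S * (P + 1) = 81 * S + 81 * P := by exact_mod_cast h17
    obtain ⟨k, hk⟩ : ∃ k, S = 9 * k + 1 := ⟨S / 9, by omega⟩
    rw [hi, hk] at h17'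
    ring_nf at h17'
    omega

/-- The second slope in the fused case is impossible. -/
theorem no_second_slope {P L p w u v : ℤ} {α β h : ℚ} (cP : P % 9 = 2) (hu : u % 3 = 0)
    (hp : p % 3 ≠ 0) (hw : w % 3 ≠ 0) (hv : v % 3 ≠ 0) (hα : α ≠ 0)
    (hslope : 7 * (β * w) = 20 * (α * p))
    (p1 : (α * p) ^ 2 + (β * w) ^ 2 / 8 = h * P * (P + 1))
    (l1 : 11 * (α * p) * (α * u) - 3 * (α * p * (β * v) + β * w * (α * u)) + β * w * (β * v) =
      h * L * P) : False := by
  have hP : (P : ℚ) ≠ 0 := by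
    have : P ≠ 0 := by omega
    exact_mod_cast this
  have hn : (P : ℚ) + 1 ≠ 0 := by
    have : P + 1 ≠ 0 := by omega
    exact_mod_cast this
  have hw0 : (w : ℚ) ≠ 0 := by
    have : w ≠ 0 := by omega
    exact_mod_cast this
  have hp0 : (p : ℚ) ≠ 0 := by
    have : p ≠ 0 := by omega
    exact_mod_cast this
  obtain rfl : β = 20 * (α * p) / (7 * w) := by
    field_simp
    linear_combination hslope
  have hh : h = 99 * α ^ 2 * p ^ 2 / (49 * P * (P + 1)) := by
    field_simp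
    field_simp at p1
    linear_combination (-1 / 8 : ℚ) * p1
  subst hh
  field_simp at l1
  have key : ((P + 1) * (119 * u * w - 20 * p * v) - 99 * L * p * w : ℤ) = 0 := by
    have h0 : (((P : ℚ) + 1) * (119 * u * w - 20 * p * v) - 99 * L * p * w) = 0 := by
      linear_combination (1 / 49 : ℚ) * l1
    exact_mod_cast h0
  obtain ⟨i, hi⟩ : ∃ i, P = 9 * i + 2 := ⟨P / 9, by omega⟩
  obtain ⟨j, rfl⟩ : ∃ j, u = 3 * j := ⟨u / 3, by omega⟩
  subst hi
  have h3 : (3 : ℤ) * ((3 * i + 1) * (119 * (3 * j) * w - 20 * p * v) - 33 * L * p * w) = 0 := by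
    linear_combination key
  have h4 : (20 * p * v) % 3 = 0 := by
    have h5 := (mul_eq_zero.mp h3).resolve_left (by norm_num)
    have : 20 * p * v = 3 * ((3 * i + 1) * 119 * j * w - 20 * i * p * v - 11 * L * p * w) := by
      linear_combination -h5
    omega
  rw [Int.mul_emod, Int.mul_emod 20 p] at h4
  rcases (show p % 3 = 1 ∨ p % 3 = 2 by omega) with a | a <;>
    rcases (show v % 3 = 1 ∨ v % 3 = 2 by omega) with b | b <;> rw [a, b] at h4 <;> omega

end Cfsg.Agent.NineD8.Core
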