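import Cfsg.Agent.Lib.Recog.ThreeCubed.Arith
import Cfsg.Agent.Lib.Recog.NineD8.Core

/-!
The arrangements of the constituents of the four vectors, and the elimination of all of them.
-/

set_option autoImplicit false
set_option linter.unusedSectionVars false

namespace Cfsg.Agent.NineD8.Arith

open ThreeCubed.Arith (rest_one rest_sum)

universe u

variable {I : Type u} [Fintype I] [DecidableEq I] {t : I} {d : I → ℤ} {m : I → ℤ}

/-- An integral vector of norm four orthogonal to the degrees. -/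
structure Vec (d m : I → ℤ) : Prop where
  norm : ∑ k, m k * m k = 4
  deg : ∑ k, m k * d k = 0

theorem Vec.small (h : Vec d m) (hd : ∀ k, 0 < d k) (k : I) : m k = 0 ∨ m k = 1 ∨ m k = -1 := by
  have h1 : m k * m k + ∑ j ∈ Finset.univ.erase k, m j * m j = 4 := by
    rw [Finset.add_sum_erase (f := fun j => m j * m j) _ (Finset.mem_univ k), h.norm]
  have h2 := Finset.sum_nonneg (s := Finset.univ.erase k) fun j _ => mul_self_nonneg (m j)
  have : m k ≤ 2 := by nlinarith
  have : -2 ≤ m k := by nlinarith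
  by_contra hc
  have h4 : m k * m k = 4 := by
    rcases (show m k = 2 ∨ m k = -2 by omega) with e | e <;> rw [e] <;> norm_num
  have hz : ∀ j, j ≠ k → m j = 0 := fun j hj => mul_self_eq_zero.mp
    ((Finset.sum_eq_zero_iff_of_nonneg fun j _ => mul_self_nonneg (m j)).mp (by linarith) j
      (by simp [hj]))
  have h5 := h.deg
  rw [Finset.sum_eq_single k (fun j _ hj => by rw [hz j hj, zero_mul]) (by simp)] at h5
  have := hd k
  rcases mul_eq_zero.mp h5 with e | e <;> omega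

/-- A vector with four constituents. -/
structure Four (m : I → ℤ) (a b c w : I) : Prop where
  nab : a ≠ b
  nac : a ≠ c
  naw : a ≠ w
  nbc : b ≠ c
  nbw : b ≠ w
  ncw : c ≠ w
  ha : m a = 1 ∨ m a = -1
  hb : m b = 1 ∨ m b = -1
  hc : m c = 1 ∨ m c = -1
  hw : m w = 1 ∨ m w = -1
  hz : ∀ k, k ≠ a → k ≠ b → k ≠ c → k ≠ w → m k = 0

variable {a b c w : I}

theorem Four.swap23 (h : Four m a b c w) : Four m a c b w :=
  ⟨h.nac, h.nab, h.naw, h.nbc.symm, h.ncw, h.nbw, h.ha, h.hc, h.hb, h.hw,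
    fun k h1 h2 h3 h4 => h.hz k h1 h3 h2 h4⟩

theorem Four.swap34 (h : Four m a b c w) : Four m a b w c :=
  ⟨h.nab, h.naw, h.nac, h.nbw, h.nbc, h.ncw.symm, h.ha, h.hb, h.hw, h.hc,
    fun k h1 h2 h3 h4 => h.hz k h1 h2 h4 h3⟩

theorem Four.swap24 (h : Four m a b c w) : Four m a w c b := h.swap23.swap34.swap23

theorem Four.sum_eq {R : Type*} [AddCommMonoid R] (h : Four m a b c w) (φ : I → R)
    (hφ : ∀ k, m k = 0 → φ k = 0) : ∑ k, φ k = φ a + φ b + φ c + φ w := by
  rw [← Finset.sum_subset (Finset.subset_univ ({a, b, c, w} : Finset I)) fun k _ hk => by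
    simp only [Finset.mem_insert, Finset.mem_singleton, not_or] at hk
    exact hφ k (h.hz k hk.1 hk.2.1 hk.2.2.1 hk.2.2.2)]
  rw [Finset.sum_insert (by simp [h.nab, h.nac, h.naw]),
    Finset.sum_insert (by simp [h.nbc, h.nbw]), Finset.sum_pair h.ncw]
  simp only [add_assoc]

theorem Four.dot (h : Four m a b c w) (g : I → ℤ) :
    ∑ k, g k * m k = g a * m a + g b * m b + g c * m c + g w * m w :=
  h.sum_eq (fun k => g k * m k) fun k hk => by rw [hk, mul_zero]

theorem Four.dot' (h : Four m a b c w) (g : I → ℤ) :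
    ∑ k, m k * g k = m a * g a + m b * g b + m c * g c + m w * g w :=
  h.sum_eq (fun k => m k * g k) fun k hk => by rw [hk, zero_mul]

theorem exists_four (h : Vec d m) (hd : ∀ k, 0 < d k) (nab : a ≠ b) (nac : a ≠ c) (nbc : b ≠ c)
    (ha : m a ≠ 0) (hb : m b ≠ 0) (hc : m c ≠ 0) : ∃ w, Four m a b c w := by
  obtain ⟨w, hw, h1, hz⟩ := rest_one (m := m) (T := {a, b, c}) (c := 3) (by
    rw [Finset.sum_insert (by simp [nab, nac]), Finset.sum_pair nbc]
    rcases (h.small hd a).resolve_left ha with e | e <;>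
      rcases (h.small hd b).resolve_left hb with e' | e' <;>
      rcases (h.small hd c).resolve_left hc with e'' | e'' <;> rw [e, e', e''] <;> norm_num)
    (by rw [h.norm]; norm_num)
  simp only [Finset.mem_insert, Finset.mem_singleton, not_or] at hw hz
  exact ⟨w, nab, nac, Ne.symm hw.1, nbc, Ne.symm hw.2.1, Ne.symm hw.2.2,
    (h.small hd a).resolve_left ha, (h.small hd b).resolve_left hb, (h.small hd c).resolve_left hc,
    h1, fun k h1 h2 h3 h4 => hz k ⟨h1, h2, h3⟩ h4⟩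

theorem exists_ne (h : Vec d m) (T : Finset I) (hT : ∑ k ∈ T, m k * m k < 4) :
    ∃ k, k ∉ T ∧ m k ≠ 0 := by
  obtain ⟨k, hk, hne⟩ := Finset.exists_ne_zero_of_sum_ne_zero (s := Tᶜ) (f := fun k => m k * m k)
    (by rw [rest_sum, h.norm]; omega)
  exact ⟨k, Finset.mem_compl.mp hk, left_ne_zero_of_mul hne⟩

theorem exists_four_of_one (h : Vec d m) (hd : ∀ k, 0 < d k) (ht : m t = 1) :
    ∃ a b c, Four m t a b c := by
  obtain ⟨a, ha, ha0⟩ := exists_ne h {t} (by simp [ht])
  simp only [Finset.mem_singleton] at ha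
  obtain ⟨b, hb, hb0⟩ := exists_ne h {t, a} (by
    rw [Finset.sum_pair (Ne.symm ha), ht]
    rcases (h.small hd a).resolve_left ha0 with e | e <;> rw [e] <;> norm_num)
  simp only [Finset.mem_insert, Finset.mem_singleton, not_or] at hb
  obtain ⟨c, hc⟩ := exists_four h hd (Ne.symm ha) (Ne.symm hb.1) (Ne.symm hb.2)
    (by rw [ht]; norm_num) ha0 hb0
  exact ⟨a, b, c, hc⟩

theorem exists_four_of_pair (h : Vec d m) (hd : ∀ k, 0 < d k) (hab : a ≠ b) (ha : m a ≠ 0)
    (hb : m b ≠ 0) : ∃ c w, Four m a b c w := by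
  obtain ⟨c, hc, hc0⟩ := exists_ne h {a, b} (by
    rw [Finset.sum_pair hab]
    rcases (h.small hd a).resolve_left ha with e | e <;>
      rcases (h.small hd b).resolve_left hb with e' | e' <;> rw [e, e'] <;> norm_num)
  simp only [Finset.mem_insert, Finset.mem_singleton, not_or] at hc
  exact ⟨c, exists_four h hd hab (Ne.symm hc.1) (Ne.symm hc.2) ha hb hc0⟩

theorem small_mul {x y : ℤ} (hx : x = 0 ∨ x = 1 ∨ x = -1) (hy : y = 1 ∨ y = -1) :
    x * y = 0 ∨ x * y = 1 ∨ x * y = -1 := by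
  rcases hx with a | a | a <;> rcases hy with b | b <;> simp [a, b]

theorem eq_of_prod_one {x y : ℤ} (hy : y = 1 ∨ y = -1) (h : x * y = 1) : x = y := by
  rcases hy with b | b <;> subst b <;> omega

theorem eq_of_prod_neg {x y : ℤ} (hy : y = 1 ∨ y = -1) (h : x * y = -1) : x = -y := by
  rcases hy with b | b <;> subst b <;> omega

theorem eq_of_prod_zero {x y : ℤ} (hy : y = 1 ∨ y = -1) (h : x * y = 0) : x = 0 := by
  rcases hy with b | b <;> subst b <;> omega

theorem three_sum {a b c : ℤ} (ha : a = 0 ∨ a = 1 ∨ a = -1) (hb : b = 0 ∨ b = 1 ∨ b = -1)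
    (hc : c = 0 ∨ c = 1 ∨ c = -1) (e : a + b + c = 1) :
    a = 1 ∧ b = 0 ∧ c = 0 ∨ a = 0 ∧ b = 1 ∧ c = 0 ∨ a = 0 ∧ b = 0 ∧ c = 1 ∨
      a = 1 ∧ b = 1 ∧ c = -1 ∨ a = 1 ∧ b = -1 ∧ c = 1 ∨ a = -1 ∧ b = 1 ∧ c = 1 := by
  rcases ha with rfl | rfl | rfl <;> rcases hb with rfl | rfl | rfl <;>
    rcases hc with rfl | rfl | rfl <;> simp_all

theorem five_sum {a b c r s : ℤ} (ha : a = 0 ∨ a = 1 ∨ a = -1) (hb : b = 0 ∨ b = 1 ∨ b = -1)
    (hc : c = 0 ∨ c = 1 ∨ c = -1) (hr : r = 0 ∨ r = 1 ∨ r = -1) (hs : s = 0 ∨ s = 1 ∨ s = -1)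
    (e : a + b + c = 1) (e' : a + r + s = 2) :
    (a = 1 ∧ b = 0 ∧ c = 0 ∧ (r = 1 ∧ s = 0 ∨ r = 0 ∧ s = 1)) ∨
      (a = 1 ∧ (b = 1 ∧ c = -1 ∨ b = -1 ∧ c = 1) ∧ (r = 1 ∨ s = 1)) ∨
      (a = 0 ∧ r = 1 ∧ s = 1 ∧ (b = 1 ∨ c = 1)) := by
  rcases ha with rfl | rfl | rfl
  · have h2 : r = 1 ∧ s = 1 := by omega
    exact Or.inr (Or.inr ⟨rfl, h2.1, h2.2, by omega⟩)
  · have h2 : r = 1 ∧ s = 0 ∨ r = 0 ∧ s = 1 := by
      rcases hr with rfl | rfl | rfl <;> omega
    have h3 : b = 0 ∧ c = 0 ∨ b = 1 ∧ c = -1 ∨ b = -1 ∧ c = 1 := by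
      rcases hb with rfl | rfl | rfl <;> omega
    rcases h3 with h | h
    · exact Or.inl ⟨rfl, h.1, h.2, h2⟩
    · exact Or.inr (Or.inl ⟨rfl, h, h2.imp And.left And.right⟩)
  · omega

/-- The data that does not depend on the pairing with involution classes. -/
structure Base (t : I) (d : I → ℤ) (E E' F F' : I → ℤ) : Prop where
  hd : ∀ k, 0 < d k
  hdt : d t = 1
  one : ∀ k, k ≠ t → d k ≠ 1
  vE : Vec d E
  vE' : Vec d E'
  vF : Vec d F
  vF' : Vec d F'
  Et : E t = 1
  E't : E' t = 0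
  Ft : F t = 1
  F't : F' t = 0
  EE' : ∑ k, E' k * E k = 1
  FF' : ∑ k, F' k * F k = 1
  EF : ∑ k, F k * E k = 2
  E'F : ∑ k, E' k * F k = 2
  EF' : ∑ k, F' k * E k = 2
  E'F' : ∑ k, F' k * E' k = 2
  nine : ∀ k, (d k + 4 * (E k + E' k + F k + F' k)) % 9 = 0

variable {E E' F F' : I → ℤ}

theorem Base.swap (B : Base t d E E' F F') : Base t d F F' E E' := by
  refine ⟨B.hd, B.hdt, B.one, B.vF, B.vF', B.vE, B.vE', B.Ft, B.F't, B.Et, B.E't, B.FF', B.EE',
    ?_, B.EF', B.E'F, ?_, fun k => ?_⟩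
  · simpa [mul_comm] using B.EF
  · simpa [mul_comm] using B.E'F'
  · have := B.nine k
    rwa [add_comm (E k + E' k + F k) (F' k), ← add_assoc,
      show F' k + (E k + E' k) + F k = F k + F' k + E k + E' k by ring] at this

/-- Functions standing for the values less the degree at an involution. -/
structure Val (t : I) (E E' F F' : I → ℤ) (u : I → ℤ) : Prop where
  ut : u t = 0
  ne : ∀ k, k ≠ t → u k ≠ 0
  sE : ∑ k, E k * u k = 0
  sE' : ∑ k, E' k * u k = 0
  sF : ∑ k, F k * u k = 0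
  sF' : ∑ k, F' k * u k = 0

theorem Val.swap {u : I → ℤ} (V : Val t E E' F F' u) : Val t F F' E E' u :=
  ⟨V.ut, V.ne, V.sF, V.sF', V.sE, V.sE'⟩

/-- The common constituent of the two vectors with trivial part. -/
theorem exists_common (B : Base t d E E' F F') :
    ∃ p l x q y, Four E t p l x ∧ Four F t p q y ∧ F p = E p ∧ F l = 0 ∧ F x = 0 ∧
      E q = 0 ∧ E y = 0 := by
  obtain ⟨a, b, c, h⟩ := exists_four_of_one B.vE B.hd B.Et
  have key : ∀ p l x, Four E t p l x → F p * E p = 1 → F l * E l = 0 → F x * E x = 0 →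
      ∃ p l x q y, Four E t p l x ∧ Four F t p q y ∧ F p = E p ∧ F l = 0 ∧ F x = 0 ∧
        E q = 0 ∧ E y = 0 := by
    intro p l x h e1 e2 e3
    obtain ⟨q, y, h'⟩ := exists_four_of_pair B.vF B.hd h.nab (by rw [B.Ft]; norm_num)
      (left_ne_zero_of_mul (e1.trans_ne one_ne_zero))
    have hl := eq_of_prod_zero h.hc e2
    have hx := eq_of_prod_zero h.hw e3
    have hE : ∀ k, k ≠ t → k ≠ p → (F k = 1 ∨ F k = -1) → E k = 0 := fun k k1 k2 k3 =>
      h.hz k k1 k2 (fun e => by rw [e, hl] at k3; omega) (fun e => by rw [e, hx] at k3; omega)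
    exact ⟨p, l, x, q, y, h, h', eq_of_prod_one h.hb e1, hl, hx,
      hE q h'.nac.symm h'.nbc.symm h'.hc, hE y h'.naw.symm h'.nbw.symm h'.hw⟩
  -- three common constituents are impossible
  have bad : ∀ p l x, Four E t p l x → F p * E p = 1 → F l * E l = 1 → F x * E x = -1 →
      False := by
    intro p l x h e1 e2 e3
    obtain ⟨w, h'⟩ := exists_four B.vF B.hd h.nab h.nac h.nbc (by rw [B.Ft]; norm_num)
      (left_ne_zero_of_mul (e1.trans_ne one_ne_zero))
      (left_ne_zero_of_mul (e2.trans_ne one_ne_zero))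
    have hx := eq_of_prod_neg h.hw e3
    have hwx : w = x := by
      by_contra hne
      have := h'.hz x h.naw.symm h.nbw.symm h.ncw.symm (Ne.symm hne)
      rw [this] at hx
      rcases h.hw with a | a <;> omega
    subst hwx
    have e4 := h.dot' d
    have e5 := h'.dot' d
    rw [B.vE.deg] at e4
    rw [B.vF.deg, B.Ft, eq_of_prod_one h.hb e1, eq_of_prod_one h.hc e2, hx] at e5
    rw [B.Et] at e4
    have := B.hd w
    rcases h.hw with e | e <;> rw [e] at e4 e5 <;> linarith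
  have e := h.dot F
  rw [B.EF, B.Ft, B.Et] at e
  have sa := small_mul (B.vF.small B.hd a) h.hb
  have sb := small_mul (B.vF.small B.hd b) h.hc
  have sc := small_mul (B.vF.small B.hd c) h.hw
  rcases three_sum sa sb sc (by linarith) with
    ⟨u, v, w⟩ | ⟨u, v, w⟩ | ⟨u, v, w⟩ | ⟨u, v, w⟩ | ⟨u, v, w⟩ | ⟨u, v, w⟩
  · exact key a b c h u v w
  · exact key b a c h.swap23 v u w
  · exact key c b a h.swap24 w v u
  · exact (bad a b c h u v w).elim
  · exact (bad a c b h.swap34 u w v).elim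
  · exact (bad c b a h.swap24 w v u).elim

variable {p l x q y : I}

/-- The sum `∑ m U W / d` on four constituents, in signed variables. -/
theorem Four.form (h : Four m a b c w) (hd : ∀ k, 0 < d k) (U W : I → ℚ) :
    ∑ k, (m k : ℚ) * U k * W k / (d k : ℚ) =
      (m a * U a) * (m a * W a) / (m a * d a) + (m b * U b) * (m b * W b) / (m b * d b) +
      (m c * U c) * (m c * W c) / (m c * d c) + (m w * U w) * (m w * W w) / (m w * d w) := by
  have ht : ∀ k, (m k = 1 ∨ m k = -1) →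
      (m k : ℚ) * U k * W k / d k = (m k * U k) * (m k * W k) / (m k * d k) := by
    intro k hk
    have : (d k : ℚ) ≠ 0 := by exact_mod_cast (hd k).ne'
    rcases hk with e | e <;> rw [e] <;> push_cast <;> field_simp
  rw [h.sum_eq (fun k => (m k : ℚ) * U k * W k / (d k : ℚ)) fun k hk => by simp [hk],
    ht a h.ha, ht b h.hb, ht c h.hc, ht w h.hw]

theorem signed_ne (hd : ∀ k, 0 < d k) {k : I} (h : m k = 1 ∨ m k = -1) :
    ((m k : ℚ) * d k) ≠ 0 := by
  have : m k * d k ≠ 0 := ThreeCubed.Arith.deg_ne hd h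
  exact_mod_cast this

/-- Prescribed values of the forms of a vector. -/
def Forms (d m u w : I → ℤ) (α β g m11 m12 m22 : ℚ) : Prop :=
  ∑ k, (m k : ℚ) * (α * u k) * (α * u k) / (d k : ℚ) = g * m11 ∧
  ∑ k, (m k : ℚ) * (α * u k) * (β * w k) / (d k : ℚ) = g * m12 ∧
  ∑ k, (m k : ℚ) * (β * w k) * (β * w k) / (d k : ℚ) = g * m22

/-- The three equations of a vector with four constituents, the first one being the base. -/
theorem Four.gram {u v : I → ℤ} {α β g m11 m12 m22 : ℚ} (h : Four m a b c w) (hd : ∀ k, 0 < d k)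
    (hg : g ≠ 0) (hdeg : ∑ k, m k * d k = 0) (hu : ∑ k, m k * u k = 0)
    (hv : ∑ k, m k * v k = 0) (hF : Forms d m u v α β g m11 m12 m22) {A B C u1 u2 w1 w2 : ℚ}
    (eA : (m a : ℚ) * d a = A) (eB : (m b : ℚ) * d b = B) (eC : (m c : ℚ) * d c = C)
    (eu1 : u1 = m b * (α * u b) - m a * (α * u a) * B / A)
    (ew1 : w1 = m c * (α * u c) - m a * (α * u a) * C / A)
    (eu2 : u2 = m b * (β * v b) - m a * (β * v a) * B / A)
    (ew2 : w2 = m c * (β * v c) - m a * (β * v a) * C / A) :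
    A * (m22 * u1 * u1 - 2 * m12 * u1 * u2 + m11 * u2 * u2) =
        g * (m11 * m22 - m12 * m12) * B * (B + A) ∧
      A * (m22 * u1 * w1 - m12 * (u1 * w2 + u2 * w1) + m11 * u2 * w2) =
        g * (m11 * m22 - m12 * m12) * B * C ∧
      A * (m22 * w1 * w1 - 2 * m12 * w1 * w2 + m11 * w2 * w2) =
        g * (m11 * m22 - m12 * m12) * C * (C + A) := by
  have e1 : (m w : ℚ) * d w = -(A + B + C) := by
    have := h.dot' d
    rw [hdeg] at this
    have : ((m a * d a + m b * d b + m c * d c + m w * d w : ℤ) : ℚ) = 0 := by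
      exact_mod_cast this.symm
    push_cast at this
    rw [eA, eB, eC] at this
    linarith
  have hA : A ≠ 0 := eA ▸ signed_ne hd h.ha
  have hB : B ≠ 0 := eB ▸ signed_ne hd h.hb
  have hC : C ≠ 0 := eC ▸ signed_ne hd h.hc
  have hS : A + B + C ≠ 0 := fun e => signed_ne hd h.hw (by rw [e1, e, neg_zero])
  have e2 : ∀ (γ : ℚ) (f : I → ℤ), ∑ k, m k * f k = 0 → (m w : ℚ) * (γ * f w) =
      -((m a : ℚ) * (γ * f a) + m b * (γ * f b) + m c * (γ * f c)) := by
    intro γ f hf
    have := h.dot' f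
    rw [hf] at this
    have : ((m a * f a + m b * f b + m c * f c + m w * f w : ℤ) : ℚ) = 0 := by
      exact_mod_cast this.symm
    push_cast at this
    linear_combination γ * this
  obtain ⟨f11, f12, f22⟩ := hF
  rw [h.form hd (fun k => α * u k) (fun k => α * u k)] at f11
  rw [h.form hd (fun k => α * u k) (fun k => β * v k)] at f12
  rw [h.form hd (fun k => β * v k) (fun k => β * v k)] at f22
  simp only [e1, eA, eB, eC, e2 α u hu, e2 β v hv] at f11 f12 f22
  refine Core.gram hB hC hS hg ?_ ?_ ?_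
  · rw [← f11, eu1, ew1]
    generalize (m a : ℚ) * (α * u a) = s
    generalize (m b : ℚ) * (α * u b) = s'
    generalize (m c : ℚ) * (α * u c) = s''
    field_simp
    ring
  · rw [← f12, eu1, ew1, eu2, ew2]
    generalize (m a : ℚ) * (α * u a) = s
    generalize (m b : ℚ) * (α * u b) = s'
    generalize (m c : ℚ) * (α * u c) = s''
    generalize (m a : ℚ) * (β * v a) = r
    generalize (m b : ℚ) * (β * v b) = r'
    generalize (m c : ℚ) * (β * v c) = r''
    field_simp
    ring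
  · rw [← f22, eu2, ew2]
    generalize (m a : ℚ) * (β * v a) = r
    generalize (m b : ℚ) * (β * v b) = r'
    generalize (m c : ℚ) * (β * v c) = r''
    field_simp
    ring

/-- Three common constituents with the vector with trivial part are impossible. -/
theorem no_three (hd : ∀ k, 0 < d k) (hdt : d t = 1) {E E' : I → ℤ} {u : I → ℤ}
    (hE : Vec d E) (hE' : Vec d E') (h : Four E t p l x) (Et : E t = 1)
    (hp : E' p = E p) (hl : E' l = E l) (hx : E' x = -E x) (hq : E' q ≠ 0) (hEq : E q = 0)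
    (hut : u t = 0) (hux : u x ≠ 0) (sE : ∑ k, E k * u k = 0) (sE' : ∑ k, E' k * u k = 0)
    (hQ : ∑ k, (E' k : ℚ) * u k * u k / (d k : ℚ) = ∑ k, (E k : ℚ) * u k * u k / (d k : ℚ)) :
    False := by
  have hp0 : E' p ≠ 0 := by rcases h.hb with e | e <;> omega
  have hl0 : E' l ≠ 0 := by rcases h.hc with e | e <;> omega
  have hx0 : E' x ≠ 0 := by rcases h.hw with e | e <;> omega
  obtain ⟨w, h'⟩ := exists_four hE' hd h.nbc h.nbw h.ncw hp0 hl0 hx0
  have hw : w = q := by
    by_contra hne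
    refine hq (h'.hz q ?_ ?_ ?_ (Ne.symm hne)) <;> intro e <;> rw [e] at hEq
    · rcases h.hb with e | e <;> omega
    · rcases h.hc with e | e <;> omega
    · rcases h.hw with e | e <;> omega
  subst hw
  have d1 := h.dot' d
  have d2 := h'.dot' d
  have u1 := h.dot' u
  have u2 := h'.dot' u
  rw [hE.deg, Et, hdt] at d1
  rw [hE'.deg, hp, hl, hx] at d2
  rw [sE, hut] at u1
  rw [sE', hp, hl, hx] at u2
  rw [h'.form hd (fun k => (u k : ℚ)) (fun k => (u k : ℚ)),
    h.form hd (fun k => (u k : ℚ)) (fun k => (u k : ℚ)), hp, hl, hx, hut] at hQ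
  have hX : (E x : ℚ) * d x ≠ 0 := signed_ne hd h.hw
  have hW : (E' w : ℚ) * d w ≠ 0 := signed_ne hd h'.hw
  have eW : (E' w : ℚ) * d w = 1 + 2 * ((E x : ℚ) * d x) := by
    have : E' w * d w = 1 + 2 * (E x * d x) := by linarith
    exact_mod_cast this
  have eU : (E' w : ℚ) * u w = 2 * ((E x : ℚ) * u x) := by
    have : E' w * u w = 2 * (E x * u x) := by linarith
    exact_mod_cast this
  rw [eW] at hW
  rw [eW, eU] at hQ
  have hU : (E x : ℚ) * u x ≠ 0 := by
    have : E x * u x ≠ 0 := mul_ne_zero (by rcases h.hw with e | e <;> omega) hux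
    exact_mod_cast this
  generalize hXd : (E x : ℚ) * d x = X at hX hW hQ
  generalize hUd : (E x : ℚ) * u x = U at hU hQ
  push_cast at hQ
  rw [show -(E x : ℚ) * d x = -X by rw [← hXd]; ring,
    show -(E x : ℚ) * u x = -U by rw [← hUd]; ring] at hQ
  generalize (E p : ℚ) * u p * ((E p : ℚ) * u p) / ((E p : ℚ) * d p) = P at hQ
  generalize (E l : ℚ) * u l * ((E l : ℚ) * u l) / ((E l : ℚ) * d l) = L at hQ
  simp only [mul_zero, zero_mul, zero_div, zero_add] at hQ
  have hW2 : 1 + X * 2 ≠ 0 := by rwa [mul_comm]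
  field_simp at hQ
  refine hU ((pow_eq_zero_iff two_ne_zero).mp ?_)
  linear_combination (-1 / 2 : ℚ) * hQ

/-- The determinants of two forms in the third arrangement. -/
theorem no_U {u v : I → ℤ} {α β g e11 e12 e22 f11 f12 f22 g11 g12 g22 : ℚ} {n : I}
    (hd : ∀ k, 0 < d k) (hdt : d t = 1) (hut : u t = 0) (hvt : v t = 0) (hg : g ≠ 0)
    (h : Four E t p l x) (hf : Four F t p q y) (hn : Four E' q y l n) (Et : E t = 1) (Ft : F t = 1)
    (hFp : F p = E p) (hq : E' q = F q) (hy : E' y = F y) (hl : E' l = E l)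
    (vE : Vec d E) (vE' : Vec d E') (vF : Vec d F)
    (uE : ∑ k, E k * u k = 0) (wE : ∑ k, E k * v k = 0)
    (uE' : ∑ k, E' k * u k = 0) (wE' : ∑ k, E' k * v k = 0)
    (uF : ∑ k, F k * u k = 0) (wF : ∑ k, F k * v k = 0)
    (ME : Forms d E u v α β g e11 e12 e22) (MF : Forms d F u v α β g f11 f12 f22)
    (MU : Forms d E' u v α β g g11 g12 g22) (hdet : e11 * e22 - e12 * e12 ≠ 0)
    (hrel : (e11 * e22 - e12 * e12) = -2 * ((g11 - f11) * (g22 - f22) - (g12 - f12) * (g12 - f12)) ∨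
      2 * (e11 * e22 - e12 * e12) = -((g11 - f11) * (g22 - f22) - (g12 - f12) * (g12 - f12))) :
    (E p * d p + 1) % 3 = 0 := by
  have d1 := h.dot' d; have d2 := hf.dot' d; have d3 := hn.dot' d
  rw [vE.deg, Et, hdt] at d1
  rw [vF.deg, Ft, hdt, hFp] at d2
  rw [vE'.deg, hq, hy, hl] at d3
  have eX : (E x : ℚ) * d x = -(1 + (E p : ℚ) * d p + (E l : ℚ) * d l) := by
    have : E x * d x = -(1 + E p * d p + E l * d l) := by linarith
    exact_mod_cast this
  have eN : (E' n : ℚ) * d n = 1 + (E p : ℚ) * d p - (E l : ℚ) * d l := by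
    have : E' n * d n = 1 + E p * d p - E l * d l := by linarith
    exact_mod_cast this
  have vals : ∀ (γ : ℚ) (f : I → ℤ), f t = 0 → ∑ k, E k * f k = 0 → ∑ k, F k * f k = 0 →
      ∑ k, E' k * f k = 0 →
      (E x : ℚ) * (γ * f x) = -((E p : ℚ) * (γ * f p) + (E l : ℚ) * (γ * f l)) ∧
      (E' n : ℚ) * (γ * f n) = (E p : ℚ) * (γ * f p) - (E l : ℚ) * (γ * f l) := by
    intro γ f ft s1 s2 s3
    have a1 := h.dot' f; have a2 := hf.dot' f; have a3 := hn.dot' f
    rw [s1, ft] at a1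
    rw [s2, ft, hFp] at a2
    rw [s3, hq, hy, hl] at a3
    have b1 : E x * f x = -(E p * f p + E l * f l) := by linarith
    have b2 : E' n * f n = E p * f p - E l * f l := by linarith
    replace b1 : (E x : ℚ) * f x = -((E p : ℚ) * f p + (E l : ℚ) * f l) := by exact_mod_cast b1
    replace b2 : (E' n : ℚ) * f n = (E p : ℚ) * f p - (E l : ℚ) * f l := by exact_mod_cast b2
    exact ⟨by linear_combination γ * b1, by linear_combination γ * b2⟩
  have hP := signed_ne hd h.hb (k := p)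
  have hL := signed_ne hd h.hc (k := l)
  have hX := signed_ne hd h.hw (k := x)
  have hN := signed_ne hd hn.hw (k := n)
  obtain ⟨ux, un⟩ := vals α u hut uE uF uE'
  obtain ⟨vx, vn⟩ := vals β v hvt wE wF wE'
  have fE : ∀ U W : I → ℚ, U t = 0 → ∑ k, (E k : ℚ) * U k * W k / (d k : ℚ) =
      (E p * U p) * (E p * W p) / (E p * d p) + (E l * U l) * (E l * W l) / (E l * d l) +
      (E x * U x) * (E x * W x) / (E x * d x) := by
    intro U W hU
    rw [h.form hd, hU]
    simp
  have fU : ∀ U W : I → ℚ, U t = 0 → ∑ k, (E' k : ℚ) * U k * W k / (d k : ℚ) -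
      ∑ k, (F k : ℚ) * U k * W k / (d k : ℚ) =
      (E l * U l) * (E l * W l) / (E l * d l) + (E' n * U n) * (E' n * W n) / (E' n * d n) -
      (E p * U p) * (E p * W p) / (E p * d p) := by
    intro U W hU
    rw [hn.form hd, hf.form hd, hU, hFp, hq, hy, hl]
    simp only [mul_zero, zero_mul, zero_div]
    ring
  have ut' : α * (u t : ℚ) = 0 := by simp [hut]
  have vt' : β * (v t : ℚ) = 0 := by simp [hvt]
  obtain ⟨a1, a2, a3⟩ := ME
  obtain ⟨b1, b2, b3⟩ := MU
  obtain ⟨c1, c2, c3⟩ := MF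
  rw [fE (fun k => α * u k) (fun k => α * u k) ut'] at a1
  rw [fE (fun k => α * u k) (fun k => β * v k) ut'] at a2
  rw [fE (fun k => β * v k) (fun k => β * v k) vt'] at a3
  have g1 := fU (fun k => α * u k) (fun k => α * u k) ut'
  have g2 := fU (fun k => α * u k) (fun k => β * v k) ut'
  have g3 := fU (fun k => β * v k) (fun k => β * v k) vt'
  rw [b1, c1] at g1
  rw [b2, c2] at g2
  rw [b3, c3] at g3
  simp only [ux, vx, eX] at a1 a2 a3
  simp only [un, vn, eN] at g1 g2 g3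
  rw [eX] at hX
  rw [eN] at hN
  generalize hp' : (E p : ℚ) * d p = P at *
  generalize hl' : (E l : ℚ) * d l = L at *
  generalize (E p : ℚ) * (α * u p) = x₁ at *
  generalize (E p : ℚ) * (β * v p) = y₁ at *
  generalize (E l : ℚ) * (α * u l) = x₂ at *
  generalize (E l : ℚ) * (β * v l) = y₂ at *
  have hX' : 1 + P + L ≠ 0 := fun e => hX (by rw [e, neg_zero])
  set D := (x₁ * y₂ - x₂ * y₁) ^ 2 with hD
  have k1 : D = g * g * (e11 * e22 - e12 * e12) * (P * L * (1 + P + L)) := by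
    rw [show g * g * (e11 * e22 - e12 * e12) = g * e11 * (g * e22) - g * e12 * (g * e12) by ring,
      ← a1, ← a2, ← a3, hD]
    field_simp
    ring
  have k2 : D = -(g * g * ((g11 - f11) * (g22 - f22) - (g12 - f12) * (g12 - f12))) *
      (P * L * (1 + P - L)) := by
    rw [show g * g * ((g11 - f11) * (g22 - f22) - (g12 - f12) * (g12 - f12)) =
      (g * g11 - g * f11) * (g * g22 - g * f22) - (g * g12 - g * f12) * (g * g12 - g * f12) by ring,
      g1, g2, g3, hD]
    field_simp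
    ring
  have k3 : (e11 * e22 - e12 * e12) * (1 + P + L) =
      -((g11 - f11) * (g22 - f22) - (g12 - f12) * (g12 - f12)) * (1 + P - L) := by
    refine mul_left_cancel₀ (mul_ne_zero (mul_ne_zero hg hg) (mul_ne_zero hP hL)) ?_
    linear_combination k2 - k1
  have k4 : P = -1 - 3 * L ∨ P = 3 * L - 1 := by
    rcases hrel with r | r
    · left
      have : (e11 * e22 - e12 * e12) * (P - (-1 - 3 * L)) = 0 := by
        linear_combination -(1 + P - L) * r + 2 * k3
      linarith [(mul_eq_zero.mp this).resolve_left hdet]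
    · right
      have : (e11 * e22 - e12 * e12) * (P - (3 * L - 1)) = 0 := by
        linear_combination (1 + P - L) * r - k3
      linarith [(mul_eq_zero.mp this).resolve_left hdet]
  rw [← hp', ← hl'] at k4
  rcases k4 with e | e
  · have : E p * d p = -1 - 3 * (E l * d l) := by exact_mod_cast e
    omega
  · have : E p * d p = 3 * (E l * d l) - 1 := by exact_mod_cast e
    omega

/-- The standard arrangement of one of the vectors without trivial part. -/
theorem classify (B : Base t d E E' F F') {u v : I → ℤ} (hu : Val t E E' F F' u)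
    (hv : Val t E E' F F' v) {α β g e11 e12 e22 f11 f12 f22 g12 g22 : ℚ} (hα : α ≠ 0) (hg : g ≠ 0)
    (ME : Forms d E u v α β g e11 e12 e22) (MF : Forms d F u v α β g f11 f12 f22)
    (MU : Forms d E' u v α β g e11 g12 g22) (hdet : e11 * e22 - e12 * e12 ≠ 0)
    (hrel : (e11 * e22 - e12 * e12) = -2 * ((e11 - f11) * (g22 - f22) - (g12 - f12) * (g12 - f12)) ∨
      2 * (e11 * e22 - e12 * e12) = -((e11 - f11) * (g22 - f22) - (g12 - f12) * (g12 - f12)))
    (h : Four E t p l x) (hf : Four F t p q y) (hp : F p = E p) (hl : F l = 0) (hx : F x = 0)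
    (hq : E q = 0) (hy : E y = 0) :
    E' p = E p ∧ E' l = 0 ∧ E' x = 0 ∧
      ((E' q = F q ∧ E' y = 0) ∨ (E' y = F y ∧ E' q = 0)) := by
  have e := h.dot E'
  have e' := hf.dot E'
  rw [B.EE', B.E't, zero_mul, zero_add] at e
  rw [B.E'F, B.E't, zero_mul, zero_add, hp] at e'
  have sp := small_mul (B.vE'.small B.hd p) h.hb
  have sl := small_mul (B.vE'.small B.hd l) h.hc
  have sx := small_mul (B.vE'.small B.hd x) h.hw
  have sq := small_mul (B.vE'.small B.hd q) hf.hc
  have sy := small_mul (B.vE'.small B.hd y) hf.hw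
  have hQ : ∑ k, (E' k : ℚ) * u k * u k / (d k : ℚ) = ∑ k, (E k : ℚ) * u k * u k / (d k : ℚ) := by
    refine mul_left_cancel₀ (pow_ne_zero 2 hα) ?_
    rw [Finset.mul_sum, Finset.mul_sum]
    refine Eq.trans ?_ ((MU.1.trans ME.1.symm).trans ?_) <;>
      exact Finset.sum_congr rfl fun k _ => by ring
  have three : ∀ {l x q}, Four E t p l x → E' p * E p = 1 → E' l * E l = 1 → E' x * E x = -1 →
      E' q ≠ 0 → E q = 0 → False := fun {l x q} hh e1 e2 e3 e4 e5 =>
    no_three B.hd B.hdt B.vE B.vE' hh B.Et (eq_of_prod_one hh.hb e1) (eq_of_prod_one hh.hc e2)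
      (eq_of_prod_neg hh.hw e3) e4 e5 hu.ut (hu.ne x hh.naw.symm) hu.sE hu.sE' hQ
  have U : ∀ {l x}, Four E t p l x → F l = 0 → F x = 0 → E' p * E p = 0 → E' q * F q = 1 →
      E' y * F y = 1 → E' l * E l = 1 → False := by
    intro l x hh hl hx e1 e2 e3 e4
    obtain ⟨n, hn⟩ := exists_four B.vE' B.hd hf.ncw
      (show q ≠ l from fun e => by rw [e] at hq; rcases hh.hc with a | a <;> omega)
      (show y ≠ l from fun e => by rw [e] at hy; rcases hh.hc with a | a <;> omega)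
      (left_ne_zero_of_mul (e2.trans_ne one_ne_zero))
      (left_ne_zero_of_mul (e3.trans_ne one_ne_zero))
      (left_ne_zero_of_mul (e4.trans_ne one_ne_zero))
    have h3 := no_U B.hd B.hdt hu.ut hv.ut hg hh hf hn B.Et B.Ft hp (eq_of_prod_one hf.hc e2)
      (eq_of_prod_one hf.hw e3) (eq_of_prod_one hh.hc e4) B.vE B.vE' B.vF hu.sE hv.sE hu.sE'
      hv.sE' hu.sF hv.sF ME MF MU hdet hrel
    have h9 := B.nine p
    have f := hh.dot F'
    rw [B.EF', B.F't, zero_mul, zero_add] at f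
    have t1 := small_mul (B.vF'.small B.hd l) hh.hc
    have t2 := small_mul (B.vF'.small B.hd x) hh.hw
    have t3 := small_mul (B.vF'.small B.hd p) hh.hb
    rw [eq_of_prod_zero hh.hb e1, hp] at h9
    rcases hh.hb with a | a <;> rw [a] at h3 h9 f t3 <;> omega
  rcases five_sum sp sl sx sq sy e.symm e'.symm with
    ⟨e1, e2, e3, e4⟩ | ⟨e1, e2, e3⟩ | ⟨e1, e2, e3, e4⟩
  · refine ⟨eq_of_prod_one h.hb e1, eq_of_prod_zero h.hc e2, eq_of_prod_zero h.hw e3, ?_⟩
    rcases e4 with ⟨a, b⟩ | ⟨a, b⟩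
    · exact Or.inl ⟨eq_of_prod_one hf.hc a, eq_of_prod_zero hf.hw b⟩
    · exact Or.inr ⟨eq_of_prod_one hf.hw b, eq_of_prod_zero hf.hc a⟩
  · exfalso
    obtain ⟨k, k1, k2⟩ : ∃ k, E' k ≠ 0 ∧ E k = 0 := by
      rcases e3 with a | a
      · exact ⟨q, left_ne_zero_of_mul (a.trans_ne one_ne_zero), hq⟩
      · exact ⟨y, left_ne_zero_of_mul (a.trans_ne one_ne_zero), hy⟩
    rcases e2 with ⟨a, b⟩ | ⟨a, b⟩
    · exact three h e1 a b k1 k2
    · exact three h.swap34 e1 b a k1 k2
  · exfalso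
    rcases e4 with a | a
    · exact U h hl hx e1 e2 e3 a
    · exact U h.swap34 hx hl e1 e2 e3 a

/-- The standard arrangement. -/
structure Std (t : I) (E E' F F' : I → ℤ) (p l x q y s n k : I) : Prop where
  fE : Four E t p l x
  fF : Four F t p q y
  fE' : Four E' p q s n
  fF' : Four F' p l s k
  pF : F p = E p
  pE' : E' p = E p
  pF' : F' p = E p
  lF' : F' l = E l
  qE' : E' q = F q
  sF' : F' s = E' s
  lF : F l = 0
  lE' : E' l = 0
  qE : E q = 0
  qF' : F' q = 0
  sE : E s = 0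
  sF : F s = 0

theorem exists_std (B : Base t d E E' F F') {u v : I → ℤ} (hu : Val t E E' F F' u)
    (hv : Val t E E' F F' v) {α β g e11 e12 e22 f11 f12 f22 g12 g22 k12 k22 : ℚ} (hα : α ≠ 0)
    (hg : g ≠ 0) (ME : Forms d E u v α β g e11 e12 e22) (MF : Forms d F u v α β g f11 f12 f22)
    (ME' : Forms d E' u v α β g e11 g12 g22) (MF' : Forms d F' u v α β g f11 k12 k22)
    (hdE : e11 * e22 - e12 * e12 ≠ 0) (hdF : f11 * f22 - f12 * f12 ≠ 0)
    (hrE : (e11 * e22 - e12 * e12) = -2 * ((e11 - f11) * (g22 - f22) - (g12 - f12) * (g12 - f12)) ∨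
      2 * (e11 * e22 - e12 * e12) = -((e11 - f11) * (g22 - f22) - (g12 - f12) * (g12 - f12)))
    (hrF : (f11 * f22 - f12 * f12) = -2 * ((f11 - e11) * (k22 - e22) - (k12 - e12) * (k12 - e12)) ∨
      2 * (f11 * f22 - f12 * f12) = -((f11 - e11) * (k22 - e22) - (k12 - e12) * (k12 - e12))) :
    ∃ p l x q y s n k, Std t E E' F F' p l x q y s n k := by
  obtain ⟨p, l, x, q, y, h, hf, hp, hl, hx, hq, hy⟩ := exists_common B
  obtain ⟨a1, a2, a3, a4⟩ := classify B hu hv hα hg ME MF ME' hdE hrE h hf hp hl hx hq hy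
  obtain ⟨b1, b2, b3, b4⟩ := classify B.swap hu.swap hv.swap hα hg MF ME MF' hdF hrF hf h hp.symm
    hq hy hl hx
  rw [hp] at b1
  -- choose the names
  obtain ⟨q, y, hf, hq, -, qE', yE', qF', yF'⟩ : ∃ q y, Four F t p q y ∧ E q = 0 ∧ E y = 0 ∧
      E' q = F q ∧ E' y = 0 ∧ F' q = 0 ∧ F' y = 0 := by
    rcases a4 with ⟨u, v⟩ | ⟨u, v⟩
    · exact ⟨q, y, hf, hq, hy, u, v, b2, b3⟩
    · exact ⟨y, q, hf.swap34, hy, hq, u, v, b3, b2⟩
  obtain ⟨l, x, h, hl, -, lE', xE', lF', xF'⟩ : ∃ l x, Four E t p l x ∧ F l = 0 ∧ F x = 0 ∧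
      E' l = 0 ∧ E' x = 0 ∧ F' l = E l ∧ F' x = 0 := by
    rcases b4 with ⟨u, v⟩ | ⟨u, v⟩
    · exact ⟨l, x, h, hl, hx, a2, a3, u, v⟩
    · exact ⟨x, l, h.swap34, hx, hl, a3, a2, u, v⟩
  obtain ⟨i, j, h'⟩ := exists_four_of_pair B.vE' B.hd hf.nbc
    (by rw [a1]; rcases h.hb with a | a <;> omega)
    (by rw [qE']; rcases hf.hc with a | a <;> omega)
  have e := h'.dot F'
  rw [B.E'F', a1, b1, qF', zero_mul] at e
  have si := small_mul (B.vF'.small B.hd i) h'.hc
  have sj := small_mul (B.vF'.small B.hd j) h'.hw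
  have hpp : E p * E p = 1 := by rcases h.hb with a | a <;> rw [a] <;> norm_num
  obtain ⟨s, n, h', sF'⟩ : ∃ s n, Four E' p q s n ∧ F' s = E' s := by
    rcases (show F' i * E' i = 1 ∨ F' j * E' j = 1 by omega) with u | u
    · exact ⟨i, j, h', eq_of_prod_one h'.hc u⟩
    · exact ⟨j, i, h'.swap34, eq_of_prod_one h'.hw u⟩
  have s0 : ∀ k, E' k = 0 → s ≠ k := fun k hk e => by
    rw [← e] at hk
    rcases h'.hc with a | a <;> omega
  have sE : E s = 0 := h.hz s (s0 t B.E't) h'.nac.symm (s0 l lE') (s0 x xE')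
  have sF : F s = 0 := hf.hz s (s0 t B.E't) h'.nac.symm h'.nbc.symm (s0 y yE')
  obtain ⟨k, hk⟩ := exists_four B.vF' B.hd h.nbc h'.nac (Ne.symm (s0 l lE'))
    (by rw [b1]; rcases h.hb with a | a <;> omega) (by rw [lF']; rcases h.hc with a | a <;> omega)
    (by rw [sF']; rcases h'.hc with a | a <;> omega)
  exact ⟨p, l, x, q, y, s, n, k, h, hf, h', hk, hp, a1, b1, lF', qE', sF', hl, lE', hq, qF', sE, sF⟩

variable {s n k : I}

/-- The congruences of the named constituents. -/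
theorem Std.cong (S : Std t E E' F F' p l x q y s n k) (B : Base t d E E' F F') :
    (E p * d p) % 9 = 2 ∧ (E l * d l) % 9 = 1 ∧ (F q * d q) % 9 = 1 ∧ (E' s * d s) % 9 = 1 := by
  have h1 := B.nine p; have h2 := B.nine l; have h3 := B.nine q; have h4 := B.nine s
  rw [S.pF, S.pE', S.pF'] at h1
  rw [S.lF, S.lE', S.lF'] at h2
  rw [S.qE, S.qE', S.qF'] at h3
  rw [S.sE, S.sF, S.sF'] at h4
  refine ⟨?_, ?_, ?_, ?_⟩
  · rcases S.fE.hb with a | a <;> rw [a] at h1 ⊢ <;> omega
  · rcases S.fE.hc with a | a <;> rw [a] at h2 ⊢ <;> omega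
  · rcases S.fF.hc with a | a <;> rw [a] at h3 ⊢ <;> omega
  · rcases S.fE'.hc with a | a <;> rw [a] at h4 ⊢ <;> omega

theorem Std.false_of_one (S : Std t E E' F F' p l x q y s n k) (B : Base t d E E' F F')
    (h : E' s * d s = 1) : False := by
  refine B.one s (fun e => ?_) ?_
  · have := B.E't
    rw [← e] at this
    rcases S.fE'.hc with a | a <;> omega
  · have := B.hd s
    rcases S.fE'.hc with a | a <;> rw [a] at h <;> omega

/-- Neither class is fused with the central one. -/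
theorem no_caseA (B : Base t d E E' F F') {u v : I → ℤ} (hu : Val t E E' F F' u)
    (hv : Val t E E' F F' v) {α β g : ℚ} (hα : α ≠ 0) (hg : g ≠ 0)
    (ME : Forms d E u v α β g 1 0 2) (ME' : Forms d E' u v α β g 1 0 2)
    (MF : Forms d F u v α β g 2 0 1) (MF' : Forms d F' u v α β g 2 0 1) : False := by
  obtain ⟨p, l, x, q, y, s, n, k, S⟩ := exists_std B hu hv hα hg ME MF ME' MF' (by norm_num)
    (by norm_num) (Or.inl (by norm_num)) (Or.inl (by norm_num))
  obtain ⟨cP, cL, cQ, cS⟩ := S.cong B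
  refine S.false_of_one B ?_
  set P := E p * d p with eP
  set L := E l * d l with eL
  set Q := F q * d q with eQ
  set S' := E' s * d s with eS
  have et : ((E t : ℚ) * d t) = 1 := by rw [B.Et, B.hdt]; norm_num
  have et' : ((F t : ℚ) * d t) = 1 := by rw [B.Ft, B.hdt]; norm_num
  have zt : (u t : ℚ) = 0 ∧ (v t : ℚ) = 0 := by simp [hu.ut, hv.ut]
  obtain ⟨a1, a2, a3⟩ := S.fE.gram B.hd hg B.vE.deg hu.sE hv.sE ME (A := 1) (B := (P : ℚ))
    (C := (L : ℚ)) et (by rw [eP]; push_cast; ring) (by rw [eL]; push_cast; ring) rfl rfl rfl rfl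
  obtain ⟨b1, b2, b3⟩ := S.fF.gram B.hd hg B.vF.deg hu.sF hv.sF MF (A := 1) (B := (P : ℚ))
    (C := (Q : ℚ)) et' (by rw [eP, S.pF]; push_cast; ring) (by rw [eQ]; push_cast; ring)
    rfl rfl rfl rfl
  obtain ⟨c1, c2, c3⟩ := S.fE'.gram B.hd hg B.vE'.deg hu.sE' hv.sE' ME' (A := (P : ℚ))
    (B := (Q : ℚ)) (C := (S' : ℚ)) (by rw [eP, S.pE']; push_cast; ring)
    (by rw [eQ, S.qE']; push_cast; ring) (by rw [eS]; push_cast; ring) rfl rfl rfl rfl
  obtain ⟨d1, d2, d3⟩ := S.fF'.gram B.hd hg B.vF'.deg hu.sF' hv.sF' MF' (A := (P : ℚ))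
    (B := (L : ℚ)) (C := (S' : ℚ)) (by rw [eP, S.pF']; push_cast; ring)
    (by rw [eL, S.lF']; push_cast; ring) (by rw [eS, S.sF']; push_cast; ring) rfl rfl rfl rfl
  simp only [zt.1, zt.2, mul_zero, zero_mul, zero_div, sub_zero, S.pF, S.pE', S.pF', S.lF', S.qE',
    S.sF'] at a1 a2 a3 b1 b2 b3 c1 c2 c3 d1 d2 d3
  generalize (E p : ℚ) * (α * u p) = xp at a1 a2 b1 b2 c1 c2 c3 d1 d2 d3
  generalize (E p : ℚ) * (β * v p) = yp at a1 a2 b1 b2 c1 c2 c3 d1 d2 d3
  generalize (E l : ℚ) * (α * u l) = xl at a2 a3 d1 d2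
  generalize (E l : ℚ) * (β * v l) = yl at a2 a3 d1 d2
  generalize (F q : ℚ) * (α * u q) = xq at b2 b3 c1 c2
  generalize (F q : ℚ) * (β * v q) = yq at b2 b3 c1 c2
  generalize (E' s : ℚ) * (α * u s) = xs at c2 c3 d2 d3
  generalize (E' s : ℚ) * (β * v s) = ys at c2 c3 d2 d3
  have hP : (P : ℚ) ≠ 0 := by
    have : P ≠ 0 := by omega
    exact_mod_cast this
  have hL : (L : ℚ) ≠ 0 := by
    have : L ≠ 0 := by omega
    exact_mod_cast this
  have hQ : (Q : ℚ) ≠ 0 := by
    have : Q ≠ 0 := by omega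
    exact_mod_cast this
  have hS : (S' : ℚ) ≠ 0 := by
    have : S' ≠ 0 := by omega
    exact_mod_cast this
  have hX : 1 + (L : ℚ) + P ≠ 0 := by
    have : 1 + L + P ≠ 0 := by omega
    exact_mod_cast this
  have hY : 1 + (P : ℚ) + Q ≠ 0 := by
    have : 1 + P + Q ≠ 0 := by omega
    exact_mod_cast this
  have hxy : yp = xp ∨ yp = -xp := sq_eq_sq_iff_eq_or_eq_neg.mp (by linear_combination b1 / 1 - a1)
  have key : (S' : ℚ) = 1 := by
    rcases hxy with e | e <;> subst yp
    · exact Core.caseA (x := xp) (u := xl) (v := yl) (c := xq) (e := yq)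
        (X := xs - xp * S' / P) (Y := ys - xp * S' / P) (h := 2 * g) hP hL hQ hS hX hY
        (mul_ne_zero two_ne_zero hg)
        (by linear_combination a1) (by linear_combination a2) (by linear_combination a3)
        (by linear_combination (norm := (field_simp; ring)) (1 / (P : ℚ)) * d1)
        (by linear_combination b2) (by linear_combination b3)
        (by linear_combination (norm := (field_simp; ring)) (1 / (P : ℚ)) * c1)
        (by linear_combination (norm := (field_simp; ring)) (1 / (P : ℚ)) * c3)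
        (by linear_combination (norm := (field_simp; ring)) (1 / (P : ℚ)) * d3)
        (by linear_combination (norm := (field_simp; ring)) (1 / (P : ℚ)) * c2)
        (by linear_combination (norm := (field_simp; ring)) (1 / (P : ℚ)) * d2)
    · exact Core.caseA (x := xp) (u := xl) (v := -yl) (c := xq) (e := -yq)
        (X := xs - xp * S' / P) (Y := -ys - xp * S' / P) (h := 2 * g) hP hL hQ hS hX hY
        (mul_ne_zero two_ne_zero hg)
        (by linear_combination a1) (by linear_combination a2) (by linear_combination a3)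
        (by linear_combination (norm := (field_simp; ring)) (1 / (P : ℚ)) * d1)
        (by linear_combination b2) (by linear_combination b3)
        (by linear_combination (norm := (field_simp; ring)) (1 / (P : ℚ)) * c1)
        (by linear_combination (norm := (field_simp; ring)) (1 / (P : ℚ)) * c3)
        (by linear_combination (norm := (field_simp; ring)) (1 / (P : ℚ)) * d3)
        (by linear_combination (norm := (field_simp; ring)) (1 / (P : ℚ)) * c2)
        (by linear_combination (norm := (field_simp; ring)) (1 / (P : ℚ)) * d2)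
  exact_mod_cast key

/-- One class is fused with the central one. -/
theorem no_caseB (B : Base t d E E' F F') {u v : I → ℤ} (hu : Val t E E' F F' u)
    (hv : Val t E E' F F' v) (cu : ∀ k, (d k + u k - (E k - E' k)) % 3 = 0)
    (cv : ∀ k, (d k + v k - (F k - F' k)) % 3 = 0) {α β g : ℚ} (hα : α ≠ 0) (hg : g ≠ 0)
    (ME : Forms d E u v α β g 1 3 11) (ME' : Forms d E' u v α β g 1 (-3) 11)
    (MF : Forms d F u v α β g 2 0 16) (MF' : Forms d F' u v α β g 2 0 4) : False := by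
  obtain ⟨p, l, x, q, y, s, n, k, S⟩ := exists_std B hu hv hα hg ME MF ME' MF' (by norm_num)
    (by norm_num) (Or.inr (by norm_num)) (Or.inl (by norm_num))
  obtain ⟨cP, cL, cQ, cS⟩ := S.cong B
  refine S.false_of_one B ?_
  set P := E p * d p with eP
  set L := E l * d l with eL
  set Q := F q * d q with eQ
  set S' := E' s * d s with eS
  have et : ((E t : ℚ) * d t) = 1 := by rw [B.Et, B.hdt]; norm_num
  have et' : ((F t : ℚ) * d t) = 1 := by rw [B.Ft, B.hdt]; norm_num
  have zt : (u t : ℚ) = 0 ∧ (v t : ℚ) = 0 := by simp [hu.ut, hv.ut]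
  obtain ⟨a1, a2, a3⟩ := S.fE.gram B.hd hg B.vE.deg hu.sE hv.sE ME (A := 1) (B := (P : ℚ))
    (C := (L : ℚ)) et (by rw [eP]; push_cast; ring) (by rw [eL]; push_cast; ring) rfl rfl rfl rfl
  obtain ⟨b1, b2, b3⟩ := S.fF.gram B.hd hg B.vF.deg hu.sF hv.sF MF (A := 1) (B := (P : ℚ))
    (C := (Q : ℚ)) et' (by rw [eP, S.pF]; push_cast; ring) (by rw [eQ]; push_cast; ring)
    rfl rfl rfl rfl
  obtain ⟨c1, c2, c3⟩ := S.fE'.gram B.hd hg B.vE'.deg hu.sE' hv.sE' ME' (A := (P : ℚ))
    (B := (Q : ℚ)) (C := (S' : ℚ)) (by rw [eP, S.pE']; push_cast; ring)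
    (by rw [eQ, S.qE']; push_cast; ring) (by rw [eS]; push_cast; ring) rfl rfl rfl rfl
  obtain ⟨d1, d2, d3⟩ := S.fF'.gram B.hd hg B.vF'.deg hu.sF' hv.sF' MF' (A := (P : ℚ))
    (B := (L : ℚ)) (C := (S' : ℚ)) (by rw [eP, S.pF']; push_cast; ring)
    (by rw [eL, S.lF']; push_cast; ring) (by rw [eS, S.sF']; push_cast; ring) rfl rfl rfl rfl
  simp only [zt.1, zt.2, mul_zero, zero_mul, zero_div, sub_zero, S.pF, S.pE', S.pF', S.lF', S.qE',
    S.sF'] at a1 a2 a3 b1 b2 b3 c1 c2 c3 d1 d2 d3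
  -- the integers behind the coordinates
  have hmod : (E p * u p) % 3 = 1 ∧ (E p * v p) % 3 = 1 ∧ (E l * u l) % 3 = 0 ∧
      (E l * v l) % 3 = 1 := by
    have p1 := cu p; have p2 := cv p; have l1 := cu l; have l2 := cv l
    rw [S.pE'] at p1
    rw [S.pF, S.pF'] at p2
    rw [S.lE'] at l1
    rw [S.lF, S.lF'] at l2
    refine ⟨?_, ?_, ?_, ?_⟩
    · rcases S.fE.hb with a | a <;> rw [a] at eP p1 ⊢ <;> omega
    · rcases S.fE.hb with a | a <;> rw [a] at eP p2 ⊢ <;> omega
    · rcases S.fE.hc with a | a <;> rw [a] at eL l1 ⊢ <;> omega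
    · rcases S.fE.hc with a | a <;> rw [a] at eL l2 ⊢ <;> omega
  have hsl : (4 * ((E p : ℚ) * (α * u p)) - (E p : ℚ) * (β * v p)) *
      (20 * ((E p : ℚ) * (α * u p)) - 7 * ((E p : ℚ) * (β * v p))) = 0 := by
    linear_combination 8 * a1 - (1 / 2 : ℚ) * b1
  rcases mul_eq_zero.mp hsl with e | e
  swap
  · exfalso
    refine Core.no_second_slope (P := P) (L := L) (p := E p * u p) (w := E p * v p)
      (u := E l * u l) (v := E l * v l) (α := α) (β := β) (h := 2 * g) cP hmod.2.2.1 (by omega)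
      (by omega) (by omega) hα ?_ ?_ ?_ <;> push_cast
    · linear_combination -e
    · linear_combination (1 / 16 : ℚ) * b1
    · linear_combination a2
  have ey : (E p : ℚ) * (β * v p) = 4 * ((E p : ℚ) * (α * u p)) := by linarith
  rw [ey] at a1 a2 b1 b2 c1 c2 c3 d1 d2 d3
  generalize (E p : ℚ) * (α * u p) = xp at a1 a2 b1 b2 c1 c2 c3 d1 d2 d3
  generalize (E l : ℚ) * (α * u l) = xl at a2 a3 d1 d2
  generalize (E l : ℚ) * (β * v l) = yl at a2 a3 d1 d2
  generalize (F q : ℚ) * (α * u q) = xq at b2 b3 c1 c2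
  generalize (F q : ℚ) * (β * v q) = yq at b2 b3 c1 c2
  generalize (E' s : ℚ) * (α * u s) = xs at c2 c3 d2 d3
  generalize (E' s : ℚ) * (β * v s) = ys at c2 c3 d2 d3
  have hP : (P : ℚ) ≠ 0 := by
    have : P ≠ 0 := by omega
    exact_mod_cast this
  have key : S' = 1 := Core.caseB (x := xp) (u := xl) (v := yl) (c := xq) (e := yq)
    (X := xs - xp * S' / P) (Y := ys - 4 * xp * S' / P) (h := 2 * g) cP cL cQ cS
    (mul_ne_zero two_ne_zero hg)
    (by linear_combination a1) (by linear_combination a2) (by linear_combination a3)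
    (by linear_combination (norm := (field_simp; ring)) (1 / (4 * (P : ℚ))) * d1)
    (by linear_combination (1 / 16 : ℚ) * b2) (by linear_combination (1 / 16 : ℚ) * b3)
    (by linear_combination (norm := (field_simp; ring)) (1 / (P : ℚ)) * c1)
    (by linear_combination (norm := (field_simp; ring)) (1 / (P : ℚ)) * c3)
    (by linear_combination (norm := (field_simp; ring)) (1 / (4 * (P : ℚ))) * d3)
    (by linear_combination (norm := (field_simp; ring)) (1 / (4 * (P : ℚ))) * d2)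
  exact key

end Cfsg.Agent.NineD8.Arith
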