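import Cfsg.Agent.Lib.Recog.NineD8.Model
import Cfsg.Agent.Lib.Recog.NineV4.Exists
import Mathlib.GroupTheory.PGroup

/-!
A group with self-centralizing normal Sylow subgroup `3^2` and dihedral Sylow 2-subgroups is `S₃ ≀ 2`.
-/

set_option autoImplicit false
set_option linter.style.haveILetI false

namespace Cfsg.Agent.NineD8

open DihedralGroup
open NineV4 (dihHom dihHom_sr kernel_facts)

universe u

variable {N : Type u} [Group N]

theorem card_eq_72 [Finite N] (M : Subgroup N) [M.Normal] (hcard : Nat.card M = 9)
    (hC : ∀ h : N, (∀ x ∈ M, h * x = x * h) → h ∈ M) (h3 : ¬ 3 ∣ M.index) (S : Sylow 2 N)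
    (hS : Nat.card (S : Subgroup N) = 8) : Nat.card N = 72 := by
  classical
  have hN : Nat.card N = 9 * M.index := by rw [← hcard, Subgroup.card_mul_index]
  have h2 : ∀ p : ℕ, p.Prime → p ∣ M.index → p = 2 := by
    intro p hp hdvd
    by_contra hp2
    have hp3 : p ≠ 3 := fun e => h3 (e ▸ hdvd)
    haveI : Fact p.Prime := ⟨hp⟩
    obtain ⟨x, hx⟩ := exists_prime_orderOf_dvd_card' (G := N) p (hN ▸ dvd_mul_of_dvd_right hdvd 9)
    -- the fixed points of `x` on `M`
    set P := Subgroup.zpowers x with hP
    have hPp : IsPGroup p (ConjAct.toConjAct '' (P : Set N) |> Subgroup.closure) := by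
      rw [show Subgroup.closure (ConjAct.toConjAct '' (P : Set N)) =
        P.map (ConjAct.toConjAct : N ≃* ConjAct N).toMonoidHom from (Subgroup.closure_eq
          (P.map (ConjAct.toConjAct : N ≃* ConjAct N).toMonoidHom) ▸ rfl)]
      exact (IsPGroup.of_card (n := 1) (by rw [Nat.card_zpowers, hx, pow_one])).map _
    set Q := Subgroup.closure (ConjAct.toConjAct '' (P : Set N)) with hQ
    have hmod := hPp.card_modEq_card_fixedPoints M
    set F := M ⊓ Subgroup.centralizer ({x} : Set N) with hF
    have hcardF : Nat.card (MulAction.fixedPoints Q M) = Nat.card F := by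
      refine Nat.card_congr
        ⟨fun y => ⟨(y.1 : N), y.1.2, ?_⟩, fun y => ⟨⟨(y : N), y.2.1⟩, ?_⟩, fun y => rfl,
          fun y => rfl⟩
      · refine Subgroup.mem_centralizer_singleton_iff.mpr ?_
        have := congrArg (fun z : M => (z : N))
          (y.2 ⟨ConjAct.toConjAct x, Subgroup.subset_closure ⟨x, Subgroup.mem_zpowers x, rfl⟩⟩)
        change ConjAct.toConjAct x • (y.1 : N) = y.1 at this
        rw [ConjAct.toConjAct_smul, mul_inv_eq_iff_eq_mul] at this
        exact this.symm
      · rintro ⟨q, hq⟩
        refine Subtype.ext ?_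
        show q • (y : N) = y
        have hmem : q ∈ MulAction.stabilizer (ConjAct N) (y : N) := by
          refine (Subgroup.closure_le _).mpr ?_ hq
          rintro _ ⟨z, hz, rfl⟩
          have hc : z ∈ Subgroup.centralizer ({(y : N)} : Set N) :=
            Subgroup.zpowers_le.mpr (Subgroup.mem_centralizer_singleton_iff.mpr
              (Subgroup.mem_centralizer_singleton_iff.mp y.2.2).symm) hz
          rw [SetLike.mem_coe, MulAction.mem_stabilizer_iff, ConjAct.toConjAct_smul,
            mul_inv_eq_iff_eq_mul]
          exact Subgroup.mem_centralizer_singleton_iff.mp hc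
        exact hmem
    rw [hcard, hcardF] at hmod
    have hd : Nat.card F ∣ 9 := hcard ▸ Subgroup.card_dvd_of_le inf_le_left
    have hp5 : 5 ≤ p := by
      have := hp.two_le
      rcases Nat.lt_or_ge p 5 with h | h
      · interval_cases p <;> first | omega | exact absurd hp (by decide)
      · exact h
    have h9 : Nat.card F = 9 := by
      have hmem : Nat.card F ∈ Nat.divisors 9 := Nat.mem_divisors.mpr ⟨hd, by norm_num⟩
      rw [show Nat.divisors 9 = {1, 3, 9} by decide] at hmem
      simp only [Finset.mem_insert, Finset.mem_singleton] at hmem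
      rcases hmem with e | e | e
      · rw [e] at hmod
        have := (Nat.modEq_iff_dvd' (by norm_num)).mp hmod.symm
        have h : p ∣ 2 ^ 3 := by simpa using this
        have := Nat.le_of_dvd (by norm_num) (hp.dvd_of_dvd_pow h)
        omega
      · rw [e] at hmod
        have := (Nat.modEq_iff_dvd' (by norm_num)).mp hmod.symm
        have h : p ∣ 6 := by simpa using this
        have := Nat.le_of_dvd (by norm_num) h
        interval_cases p
        · norm_num at h
        · exact absurd hp (by decide)
      · exact e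
    have hFM : F = M := Subgroup.eq_of_le_of_card_ge inf_le_left (by rw [h9, hcard])
    have hxM : x ∈ M := hC x fun m hm =>
      (Subgroup.mem_centralizer_singleton_iff.mp ((hFM.symm ▸ hm : m ∈ F).2)).symm
    have h5 := Subgroup.orderOf_dvd_natCard M hxM
    rw [hx, hcard] at h5
    exact hp3 ((Nat.prime_dvd_prime_iff_eq hp Nat.prime_three).mp
      (hp.dvd_of_dvd_pow (n := 2) (by simpa using h5)))
  have hpow := Nat.eq_prime_pow_of_unique_prime_dvd (Nat.pos_of_ne_zero fun e => by
    rw [e] at h3; exact h3 (dvd_zero 3)).ne' (fun hp hd => h2 _ hp hd)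
  have hdS : 8 ∣ M.index := by
    have := Subgroup.card_subgroup_dvd_card (S : Subgroup N)
    rw [hS, hN] at this
    exact (Nat.Coprime.dvd_mul_left (by norm_num)).mp this
  have hm := S.card_eq_multiplicity
  rw [hS, hN, hpow, Nat.factorization_mul (by norm_num) (pow_ne_zero _ (by norm_num)),
    Nat.Prime.factorization_pow Nat.prime_two] at hm
  have h9 : (Nat.factorization 9) 2 = 0 := Nat.factorization_eq_zero_of_not_dvd (by norm_num)
  simp [h9] at hm
  rw [hN, hpow, ← hm]

/-- Equations between involutions and the elements they act on. -/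
structure Frame (a a' t x y : N) : Prop where
  ha : a * a = 1
  ha' : a' * a' = 1
  ht : t * t = 1
  comm : a * a' = a' * a
  hta : t * a * t = a'
  hx3 : x ^ 3 = 1
  hy3 : y ^ 3 = 1
  hxy : x * y = y * x
  hax : a * x * a = x⁻¹
  hay : a * y * a = y
  ha'x : a' * x * a' = x
  ha'y : a' * y * a' = y⁻¹
  htx : t * x * t = y
  hx1 : x ≠ 1
  hy1 : y ≠ 1

/-- The frame inside the Sylow subgroups. -/
theorem exists_frame [Finite N] (M : Subgroup N) [M.Normal] (hcard : Nat.card M = 9)
    (hexp : ∀ x ∈ M, x ^ 3 = 1) (hC : ∀ h : N, (∀ x ∈ M, h * x = x * h) → h ∈ M)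
    (hcomm : ∀ x ∈ M, ∀ y ∈ M, x * y = y * x) (f : DihedralGroup 4 →* N)
    (hf : Function.Injective f) : ∃ a a' t x y : N, Frame a a' t x y := by
  classical
  haveI : Fact (Nat.Prime 3) := ⟨Nat.prime_three⟩
  set a := f (sr 0) with hadef
  set t := f (sr 1) with htdef
  set a' := f (sr 2) with ha'def
  have hfS : ∀ z : DihedralGroup 4, f z ∈ M → f z = 1 := by
    intro z hz
    have h1 : orderOf (f z) ∣ 8 := by
      refine (orderOf_map_dvd f z).trans ?_
      have := orderOf_dvd_natCard z
      rwa [DihedralGroup.nat_card] at this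
    have h2 := Subgroup.orderOf_dvd_natCard M hz
    rw [hcard] at h2
    exact orderOf_eq_one_iff.mp (Nat.eq_one_of_dvd_coprimes (by norm_num) h1 h2)
  have ha : a * a = 1 := by rw [hadef, ← map_mul, sr_mul_self, map_one]
  have ht : t * t = 1 := by rw [htdef, ← map_mul, sr_mul_self, map_one]
  have ha' : a' * a' = 1 := by rw [ha'def, ← map_mul, sr_mul_self, map_one]
  have hta : t * a * t = a' := by
    rw [hadef, htdef, ha'def, ← map_mul, ← map_mul]
    congr 1
  have hcom : a * a' = a' * a := by
    rw [hadef, ha'def, ← map_mul, ← map_mul]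
    congr 1
  have hconj : ∀ {s : N}, s * s = 1 → ∀ m ∈ M, s * m * s ∈ M := fun {s} hs m hm => by
    have := Subgroup.Normal.conj_mem ‹M.Normal› m hm s
    rwa [inv_eq_of_mul_eq_one_right hs] at this
  have hdist : ∀ {s : N}, s * s = 1 → ∀ m n : N, s * (m * n) * s = (s * m * s) * (s * n * s) :=
    fun {s} hs m n => by
      calc s * (m * n) * s = s * m * 1 * n * s := by group
        _ = s * m * (s * s) * n * s := by rw [hs]
        _ = _ := by group
  have hinv' : ∀ {s : N}, s * s = 1 → ∀ m : N, s * m⁻¹ * s = (s * m * s)⁻¹ := fun {s} hs m => by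
    rw [mul_inv_rev, mul_inv_rev, inv_eq_of_mul_eq_one_right hs, mul_assoc]
  have hback : ∀ {s : N}, s * s = 1 → ∀ m : N, s * (s * m * s) * s = m := fun {s} hs m => by
    calc s * (s * m * s) * s = (s * s) * m * (s * s) := by group
      _ = m := by rw [hs, one_mul, mul_one]
  -- the product of the two reflections centralizes nothing but itself
  have hzne : a * a' ∉ M := fun h => by
    have h1 := hfS (sr 0 * sr 2) (by rw [map_mul]; exact h)
    rw [← map_one f] at h1
    exact absurd (hf h1) (by decide)
  have hane : a ∉ M := fun h => by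
    have h1 := hfS (sr 0) h
    rw [← map_one f] at h1
    exact absurd (hf h1) (by decide)
  obtain ⟨y, hy, hy1, hay⟩ : ∃ y ∈ M, y ≠ 1 ∧ a * y * a = y := by
    by_contra hc
    push Not at hc
    have hai : ∀ m ∈ M, a * m * a = m⁻¹ := fun m hm => by
      by_contra hne
      refine hc (m * (a * m * a)) (M.mul_mem hm (hconj ha m hm))
        (fun e => hne (eq_inv_of_mul_eq_one_right e)) ?_
      rw [hdist ha, hback ha]
      exact hcomm _ (hconj ha m hm) _ hm
    refine hzne (hC _ fun m hm => ?_)
    have h1 : a' * m * a' = m⁻¹ := by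
      rw [← hta]
      calc t * a * t * m * (t * a * t) = t * (a * (t * m * t) * a) * t := by group
        _ = t * (t * m * t)⁻¹ * t := by rw [hai _ (hconj ht m hm)]
        _ = _ := by rw [hinv' ht, hback ht]
    calc a * a' * m = a * (a' * m * a') * a'⁻¹ := by group
      _ = a * m⁻¹ * a * (a * a') := by
          rw [h1, inv_eq_of_mul_eq_one_right ha',
            show a * m⁻¹ * a * (a * a') = a * m⁻¹ * (a * a) * a' by group, ha, mul_one]
      _ = m * (a * a') := by rw [hinv' ha, hai m hm, inv_inv]
  set x := t * y * t with hxdef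
  have hx : x ∈ M := hconj ht y hy
  have hx1 : x ≠ 1 := fun e => hy1 (by rw [← hback ht y, ← hxdef, e, mul_one, ht])
  have ha'x : a' * x * a' = x := by
    rw [← hta, hxdef]
    calc t * a * t * (t * y * t) * (t * a * t) = t * a * (t * t) * y * (t * t) * a * t := by group
      _ = t * (a * y * a) * t := by rw [ht]; group
      _ = _ := by rw [hay]
  have htx : t * x * t = y := hback ht y
  have hswap : ∀ m : N, a * (a' * m * a') * a = a' * (a * m * a) * a' := fun m => by
    calc a * (a' * m * a') * a = (a * a') * m * (a' * a) := by group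
      _ = (a' * a) * m * (a * a') := by rw [hcom]
      _ = _ := by group
  -- `a` inverts `x`
  have hax : a * x * a = x⁻¹ := by
    by_contra hne
    set c := x * (a * x * a) with hcdef
    have hc : c ∈ M := M.mul_mem hx (hconj ha x hx)
    have hc1 : c ≠ 1 := fun e => hne (eq_inv_of_mul_eq_one_right e)
    have hac : a * c * a = c := by
      rw [hcdef, hdist ha, hback ha]
      exact hcomm _ (hconj ha x hx) _ hx
    have ha'c : a' * c * a' = c := by rw [hcdef, hdist ha', ← hswap, ha'x]
    have hcs : ∀ {s : N}, s * s = 1 → (¬ ∀ m ∈ M, s * m * s = m) → s * c * s = c →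
        ∀ m ∈ M, s * m * s = m → m ∈ Subgroup.zpowers c := by
      intro s hs hnot hsc m hm hsm
      let F : Subgroup N :=
        { carrier := {n | n ∈ M ∧ s * n * s = n}
          mul_mem' := fun {p q} hp hq => ⟨M.mul_mem hp.1 hq.1, by rw [hdist hs, hp.2, hq.2]⟩
          one_mem' := ⟨M.one_mem, by rw [mul_one, hs]⟩
          inv_mem' := fun {p} hp => ⟨M.inv_mem hp.1, by rw [hinv' hs, hp.2]⟩ }
      have hd : Nat.card F ∣ 3 ^ 2 := by
        have := Subgroup.card_dvd_of_le (show F ≤ M from fun n hn => hn.1)
        rwa [hcard] at this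
      obtain ⟨j, hj, hj'⟩ := (Nat.dvd_prime_pow Nat.prime_three).mp hd
      have hj2 : j ≠ 2 := fun e => hnot fun n hn => by
        have hFM : F = M := Subgroup.eq_of_le_of_card_ge (fun n hn => hn.1) (by
          rw [hj', e, hcard]; norm_num)
        exact (hFM.symm ▸ hn : n ∈ F).2
      have hle : Subgroup.zpowers c ≤ F := Subgroup.zpowers_le.mpr ⟨hc, hsc⟩
      have hcardc : Nat.card (Subgroup.zpowers c) = 3 := by
        rw [Nat.card_zpowers]
        exact orderOf_eq_prime (hexp c hc) hc1
      have heq : Subgroup.zpowers c = F := Subgroup.eq_of_le_of_card_ge hle (by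
        rw [hj', hcardc]
        rcases (show j = 0 ∨ j = 1 by omega) with e | e <;> rw [e] <;> norm_num)
      rw [heq]
      exact ⟨hm, hsm⟩
    have hna : ¬ ∀ m ∈ M, a * m * a = m := fun h => hane (hC a fun m hm => by
      calc a * m = a * m * a * a := by rw [mul_assoc (a * m), ha, mul_one]
        _ = m * a := by rw [h m hm])
    have hna' : ¬ ∀ m ∈ M, a' * m * a' = m := fun h => hna fun m hm => by
      have := h (t * m * t) (hconj ht m hm)
      rw [← hta] at this
      have h2 : t * (a * m * a) * t = t * m * t := by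
        refine Eq.trans ?_ this
        calc t * (a * m * a) * t = t * a * 1 * m * 1 * a * t := by group
          _ = t * a * (t * t) * m * (t * t) * a * t := by rw [ht]
          _ = _ := by group
      exact mul_left_cancel (mul_right_cancel h2)
    have hfix : ∀ {s : N}, s * c * s = c → s * s = 1 → ∀ m ∈ Subgroup.zpowers c, s * m * s = m := by
      intro s hsc hs m hm
      obtain ⟨j, rfl⟩ := Subgroup.mem_zpowers_iff.mp hm
      have : (s * c * s⁻¹) ^ j = s * c ^ j * s⁻¹ := conj_zpow
      rw [inv_eq_of_mul_eq_one_right hs, hsc] at this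
      exact this.symm
    have h1 : ∀ m ∈ M, a * m * a = m → a' * m * a' = m := fun m hm h =>
      hfix ha'c ha' m (hcs ha hna hac m hm h)
    have h2 : ∀ m ∈ M, a' * m * a' = m → a * m * a = m := fun m hm h =>
      hfix hac ha m (hcs ha' hna' ha'c m hm h)
    -- then the two reflections act in the same way
    refine hzne (hC _ fun m hm => ?_)
    set w := m⁻¹ * (a * m * a) with hwdef
    have hw : w ∈ M := M.mul_mem (M.inv_mem hm) (hconj ha m hm)
    have haw : a * w * a = w⁻¹ := by
      rw [hwdef, hdist ha, hinv' ha, hback ha]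
      group
    have ha'w : a' * w * a' = w⁻¹ := by
      set n := w * (a' * w * a') with hndef
      have hn : n ∈ M := M.mul_mem hw (hconj ha' w hw)
      have hn' : a' * n * a' = n := by
        rw [hndef, hdist ha', hback ha']
        exact hcomm _ (hconj ha' w hw) _ hw
      have e1 := h2 n hn hn'
      have e2 : a * n * a = n⁻¹ := by
        rw [hndef, hdist ha, hswap, haw, hinv' ha', mul_inv_rev w (a' * w * a')]
        exact hcomm _ (M.inv_mem hw) _ (M.inv_mem (hconj ha' w hw))
      rw [e1] at e2
      have e3 : n * n = 1 := by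
        conv_lhs => enter [2]; rw [e2]
        exact mul_inv_cancel n
      have e4 := hexp n hn
      rw [pow_succ, pow_two, e3, one_mul] at e4
      exact eq_inv_of_mul_eq_one_right e4
    set k := m * (a * m * a) with hkdef
    have hk : k ∈ M := M.mul_mem hm (hconj ha m hm)
    have hak : a * k * a = k := by
      rw [hkdef, hdist ha, hback ha]
      exact hcomm _ (hconj ha m hm) _ hm
    have ha'k : a' * k * a' = k := h1 k hk hak
    have hm2 : m * m = k * w⁻¹ := by
      rw [hkdef, hwdef, mul_inv_rev, inv_inv]
      group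
    have hzmm : a * a' * (m * m) = m * m * (a * a') := by
      have e1 : a * (a' * (m * m) * a') * a = m * m := by
        rw [hm2, hdist ha', hinv' ha', ha'k, ha'w, inv_inv, hdist ha, hak, haw]
      calc a * a' * (m * m) = a * (a' * (m * m) * a') * a * (a * a') := by
            rw [show a * (a' * (m * m) * a') * a * (a * a') =
              a * (a' * (m * m) * a') * (a * a) * a' by group, ha, mul_one,
              show a * (a' * (m * m) * a') * a' = a * a' * (m * m) * (a' * a') by group, ha', mul_one]
        _ = _ := by rw [e1]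
    have hminv : m = (m * m)⁻¹ := eq_inv_of_mul_eq_one_left (by
      rw [← mul_assoc]; have := hexp m hm; rwa [pow_succ, pow_two] at this)
    rw [hminv]
    exact (Commute.inv_right hzmm).eq
  have ha'y : a' * y * a' = y⁻¹ := by
    rw [← hta]
    calc t * a * t * y * (t * a * t) = t * (a * (t * y * t) * a) * t := by group
      _ = t * x⁻¹ * t := by rw [← hxdef, hax]
      _ = _ := by rw [hinv' ht, htx]
  exact ⟨a, a', t, x, y, ha, ha', ht, hcom, hta, hexp x hx, hexp y hy, hcomm x hx y hy, hax, hay,
    ha'x, ha'y, htx, hx1, hy1⟩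

theorem inl_sr : ∀ w : DihedralGroup 3, ((w, 1) : NineV4.V) ≠ (1, sr 0) := by decide +kernel

/-- The identification with the model. -/
theorem exists_equiv [Finite N] {a a' t x y : N} (F : Frame a a' t x y) (hN : Nat.card N = 72) :
    Nonempty (N ≃* Wr) := by
  classical
  let ψa := dihHom a x F.ha F.hx3 F.hax
  let ψb := dihHom a' y F.ha' F.hy3 F.ha'y
  have c1 : Commute a a' := F.comm
  have c2 : Commute a y := by
    show a * y = y * a
    calc a * y = a * y * a * a := by rw [mul_assoc (a * y), F.ha, mul_one]
      _ = y * a := by rw [F.hay]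
  have c3 : Commute x a' := by
    show x * a' = a' * x
    calc x * a' = a' * x * a' * a' := by rw [F.ha'x]
      _ = a' * x := by rw [mul_assoc (a' * x), F.ha', mul_one]
  have c4 : Commute x y := F.hxy
  have hcommab : ∀ m n, Commute (ψa m) (ψb n) := by
    rintro (i | i) (j | j)
    · exact c4.pow_pow _ _
    · exact (c3.mul_right (c4.pow_right _)).pow_left _
    · exact (c2.pow_right _).mul_left (c4.pow_pow _ _)
    · exact (c1.mul_right (c2.pow_right _)).mul_left ((c3.mul_right (c4.pow_right _)).pow_left _)
  let φ : NineV4.V →* N := MonoidHom.noncommCoprod ψa ψb hcommab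
  have hinv : t⁻¹ = t := inv_eq_of_mul_eq_one_right F.ht
  have htψ : ∀ w, t * ψa w * t = ψb w := by
    have hp : ∀ n : ℕ, t * x ^ n * t = y ^ n := fun n => by
      have h : (t * x * t⁻¹) ^ n = t * x ^ n * t⁻¹ := conj_pow
      rw [hinv, F.htx] at h
      exact h.symm
    rintro (i | i)
    · exact hp _
    · show t * (a * x ^ i.val) * t = a' * y ^ i.val
      rw [← hp, ← F.hta]
      calc t * (a * x ^ i.val) * t = t * a * 1 * x ^ i.val * t := by group
        _ = t * a * (t * t) * x ^ i.val * t := by rw [F.ht]
        _ = _ := by group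
  have htψ' : ∀ w, t * ψb w * t = ψa w := fun w => by
    rw [← htψ, show t * (t * ψa w * t) * t = (t * t) * ψa w * (t * t) by group, F.ht, one_mul,
      mul_one]
  have htφ : ∀ u v, t * φ (u, v) = φ (v, u) * t := by
    intro u v
    show t * (ψa u * ψb v) = ψa v * ψb u * t
    calc t * (ψa u * ψb v) = t * ψa u * (t * t) * ψb v * (t * t) := by
          rw [F.ht, mul_one, mul_one, mul_assoc]
      _ = (t * ψa u * t) * (t * ψb v * t) * t := by group
      _ = ψb u * ψa v * t := by rw [htψ, htψ']
      _ = _ := by rw [(hcommab v u).eq]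
  let Φ : Wr →* N := MonoidHom.mk' (fun w => φ (w.x, w.y) * (if w.s then t else 1)) (by
    rintro ⟨u, v, _ | _⟩ ⟨u', v', s⟩
    · simp only [mul_def, wmul, Bool.false_eq_true, if_false, mul_one]
      rw [← Prod.mk_mul_mk, map_mul, mul_assoc]; rfl
    · simp only [mul_def, wmul, if_true]
      rw [← Prod.mk_mul_mk, map_mul, show φ (u, v) * t * (φ (u', v') * if s then t else 1) =
        φ (u, v) * (t * φ (u', v')) * (if s then t else 1) by group, htφ]
      cases s <;> simp [mul_assoc, F.ht])
  have hφinj : Function.Injective φ := by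
    have hφx : φ (r 1, 1) = x := by simp [φ, ψa, (dihHom_sr _ _ _ _ _).2]
    have hφy : φ (1, r 1) = y := by simp [φ, ψb, (dihHom_sr _ _ _ _ _).2]
    rw [injective_iff_map_eq_one]
    intro w hw
    by_contra h1
    obtain ⟨v, u, i, j, e | e⟩ := kernel_facts w h1
    · have := congrArg φ e
      simp [hw, hφx] at this
      exact F.hx1 this.symm
    · have := congrArg φ e
      simp [hw, hφy] at this
      exact F.hy1 this.symm
  have hinj : Function.Injective Φ := by
    rw [injective_iff_map_eq_one]
    rintro ⟨u, v, _ | _⟩ hw <;> change φ (u, v) * (if _ then t else 1) = 1 at hw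
    · rw [if_neg (by simp), mul_one] at hw
      have := hφinj (hw.trans φ.map_one.symm)
      rw [Prod.mk_eq_one] at this
      rw [one_def, this.1, this.2]
    · exfalso
      rw [if_pos rfl] at hw
      have ht : t = φ (u, v) := ((eq_inv_of_mul_eq_one_left hw).trans hinv).symm
      have h1 : φ ((u, v) * (sr 0, 1) * (u, v)) = φ (1, sr 0) := by
        rw [map_mul, map_mul, ← ht]
        have e1 : φ (sr 0, 1) = a := by simp [φ, ψa, (dihHom_sr _ _ _ _ _).1]
        have e2 : φ (1, sr 0) = a' := by simp [φ, ψb, (dihHom_sr _ _ _ _ _).1]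
        rw [e1, e2, F.hta]
      have h2 := hφinj h1
      have h3 : ((u, v) : NineV4.V) * (u, v) = 1 := hφinj (by rw [map_mul, ← ht, F.ht, map_one])
      rw [Prod.mk_mul_mk, Prod.mk_mul_mk, mul_one] at h2
      rw [Prod.mk_mul_mk, Prod.mk_eq_one] at h3
      rw [h3.2] at h2
      exact inl_sr _ h2
  haveI : Fintype N := Fintype.ofFinite N
  exact ⟨(MulEquiv.ofBijective Φ ((Fintype.bijective_iff_injective_and_card Φ).mpr ⟨hinj, by
    rw [card_Wr, ← Nat.card_eq_fintype_card, hN]⟩)).symm⟩

end Cfsg.Agent.NineD8
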