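import Cfsg.Agent.Lib.Recog.ThreeCubed.Generalized
import Mathlib.Tactic.DeriveFintype

/-!
The model `S₃ ≀ 2` of a group `3^2 : D₈`.
-/

set_option autoImplicit false

namespace Cfsg.Agent.NineD8

open DihedralGroup ThreeCubed

/-- Elements of the wreath product. -/
structure Wr where
  /-- first coordinate -/
  x : DihedralGroup 3
  /-- second coordinate -/
  y : DihedralGroup 3
  /-- interchange of the coordinates -/
  s : Bool
  deriving DecidableEq, Fintype

/-- Product in the wreath product. -/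
def wmul : Wr → Wr → Wr
  | ⟨a, b, false⟩, ⟨c, d, t⟩ => ⟨a * c, b * d, t⟩
  | ⟨a, b, true⟩, ⟨c, d, t⟩ => ⟨a * d, b * c, !t⟩

/-- Inverse in the wreath product. -/
def winv : Wr → Wr
  | ⟨a, b, false⟩ => ⟨a⁻¹, b⁻¹, false⟩
  | ⟨a, b, true⟩ => ⟨b⁻¹, a⁻¹, true⟩

instance : Mul Wr := ⟨wmul⟩
instance : One Wr := ⟨⟨1, 1, false⟩⟩
instance : Inv Wr := ⟨winv⟩

theorem mul_def (a b : Wr) : a * b = wmul a b := rfl
theorem one_def : (1 : Wr) = ⟨1, 1, false⟩ := rfl
theorem inv_def (a : Wr) : a⁻¹ = winv a := rfl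

instance : Group Wr where
  mul_assoc := by
    rintro ⟨a, b, _ | _⟩ ⟨c, d, _ | _⟩ ⟨e, f, _ | _⟩ <;> simp [mul_def, wmul, mul_assoc]
  one_mul := by rintro ⟨a, b, _ | _⟩ <;> simp [mul_def, one_def, wmul]
  mul_one := by rintro ⟨a, b, _ | _⟩ <;> simp [mul_def, one_def, wmul]
  inv_mul_cancel := by rintro ⟨a, b, _ | _⟩ <;> simp [mul_def, inv_def, one_def, wmul, winv]

/-- Sign of the interchange. -/
def lam (w : Wr) : ℤ := if w.s then -1 else 1

/-- Product of the coordinate signs. -/
def mu (w : Wr) : ℤ := eps w.x * eps w.y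

theorem lam_mul (v w : Wr) : lam (v * w) = lam v * lam w := by
  obtain ⟨a, b, _ | _⟩ := v <;> obtain ⟨c, d, _ | _⟩ := w <;> simp [mul_def, wmul, lam]

theorem mu_mul (v w : Wr) : mu (v * w) = mu v * mu w := by
  obtain ⟨a, b, _ | _⟩ := v <;> obtain ⟨c, d, t⟩ := w <;>
    simp [mul_def, wmul, mu, eps_mul] <;> ring

/-- Action on four points. -/
def act4 : Wr → Bool × Bool → Bool × Bool
  | ⟨a, b, s⟩, (i, e) =>
    (xor i s, xor e (decide ((if xor i s then eps b else eps a) = -1)))

/-- Action on six points. -/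
def act6 : Wr → Bool × Fin 3 → Bool × Fin 3
  | ⟨a, b, s⟩, (i, j) => (xor i s, act3 (if xor i s then b else a) j)

/-- Action on nine points. -/
def act9 : Wr → Fin 3 × Fin 3 → Fin 3 × Fin 3
  | ⟨a, b, s⟩, (p, q) => if s then (act3 a q, act3 b p) else (act3 a p, act3 b q)

theorem act4_one : ∀ p, act4 1 p = p := by decide +kernel
theorem act6_one : ∀ p, act6 1 p = p := by decide +kernel
theorem act9_one : ∀ p, act9 1 p = p := by decide +kernel

theorem act4_mul (v w : Wr) : ∀ p, act4 (v * w) p = act4 v (act4 w p) := by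
  have h : ∀ s t : DihedralGroup 3, decide (eps (s * t) = -1) =
      xor (decide (eps s = -1)) (decide (eps t = -1)) := by decide +kernel
  obtain ⟨a, b, _ | _⟩ := v <;> obtain ⟨c, d, _ | _⟩ := w <;> rintro ⟨_ | _, _ | _⟩ <;>
    simp [mul_def, wmul, act4, h] <;>
    (cases decide (eps a = -1) <;> cases decide (eps b = -1) <;> cases decide (eps c = -1) <;>
      cases decide (eps d = -1) <;> rfl)

theorem act6_mul (v w : Wr) : ∀ p, act6 (v * w) p = act6 v (act6 w p) := by
  obtain ⟨a, b, _ | _⟩ := v <;> obtain ⟨c, d, _ | _⟩ := w <;> rintro ⟨_ | _, j⟩ <;>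
    simp [mul_def, wmul, act6, act3_mul]

theorem act9_mul (v w : Wr) : ∀ p, act9 (v * w) p = act9 v (act9 w p) := by
  obtain ⟨a, b, _ | _⟩ := v <;> obtain ⟨c, d, _ | _⟩ := w <;> rintro ⟨p, q⟩ <;>
    simp [mul_def, wmul, act9, act3_mul]

/-- Numbers of fixed points. -/
def fix4 (w : Wr) : ℤ := ((Finset.univ.filter fun p => act4 w p = p).card : ℤ)
/-- Numbers of fixed points. -/
def fix6 (w : Wr) : ℤ := ((Finset.univ.filter fun p => act6 w p = p).card : ℤ)
/-- Numbers of fixed points. -/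
def fix9 (w : Wr) : ℤ := ((Finset.univ.filter fun p => act9 w p = p).card : ℤ)

/-- The character induced from a coordinate sign. -/
def nu (w : Wr) : ℤ := fix4 w - (1 + lam w)

/-- Table `E`. -/
def tE (w : Wr) : ℤ := 2 * (1 + lam w) + nu w - fix6 w
/-- Table `E'`. -/
def tE' (w : Wr) : ℤ := mu w * tE w
/-- Table `F`. -/
def tF (w : Wr) : ℤ := 1 + nu w + mu w - (fix9 w - fix6 w + lam w)
/-- Table `F'`. -/
def tF' (w : Wr) : ℤ := lam w * tF w
/-- Multiple of the indicator of the Sylow 3-subgroup. -/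
def tRho (w : Wr) : ℤ := (1 + lam w) * (1 + mu w) + 2 * nu w
/-- Multiple of the indicator of the elements commuting into the first involution class. -/
def tPhiA (w : Wr) : ℤ := (1 - mu w) * (1 + lam w)
/-- Multiple of the indicator of the elements commuting into the second involution class. -/
def tPhiT (w : Wr) : ℤ := (1 + mu w) * (1 - lam w)

/-- The four tables. -/
def dTables : List (Wr → ℤ) := [tE, tE', tF, tF']

theorem dTables_sq' : ∀ w : Wr, w * w = 1 → tE w = 0 ∧ tE' w = 0 ∧ tF w = 0 ∧ tF' w = 0 := by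
  decide +kernel

theorem dTables_sq : ∀ F ∈ dTables, ∀ w : Wr, w * w = 1 → F w = 0 := by
  intro F hF w h
  obtain ⟨a, b, c, d⟩ := dTables_sq' w h
  simp only [dTables, List.mem_cons, List.not_mem_nil, or_false] at hF
  rcases hF with rfl | rfl | rfl | rfl <;> assumption

/-- The homomorphism of the interchange sign. -/
noncomputable def lamHom : Wr →* ℂˣ where
  toFun w := if lam w = 1 then 1 else -1
  map_one' := by decide +kernel |> fun (h : lam 1 = 1) => if_pos h
  map_mul' v w := by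
    have h : ∀ w : Wr, lam w = 1 ∨ lam w = -1 := by decide +kernel
    rcases h v with a | a <;> rcases h w with b | b <;> simp [lam_mul, a, b]

/-- The homomorphism of the product of coordinate signs. -/
noncomputable def muHom : Wr →* ℂˣ where
  toFun w := if mu w = 1 then 1 else -1
  map_one' := by decide +kernel |> fun (h : mu 1 = 1) => if_pos h
  map_mul' v w := by
    have h : ∀ w : Wr, mu w = 1 ∨ mu w = -1 := by decide +kernel
    rcases h v with a | a <;> rcases h w with b | b <;> simp [mu_mul, a, b]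

theorem isGen_lam : IsGeneralizedCharacter Wr (fun w => (lam w : ℂ)) := by
  have h : ∀ w : Wr, ((lamHom w : ℂˣ) : ℂ) = (lam w : ℂ) := by
    intro w
    have h : ∀ w : Wr, lam w = 1 ∨ lam w = -1 := by decide +kernel
    rcases h w with a | a <;> simp [lamHom, a]
  simpa [h] using CT.isGen_of_isIrr (CT.isIrrCharacter_lin lamHom)

theorem isGen_mu : IsGeneralizedCharacter Wr (fun w => (mu w : ℂ)) := by
  have h : ∀ w : Wr, ((muHom w : ℂˣ) : ℂ) = (mu w : ℂ) := by
    intro w
    have h : ∀ w : Wr, mu w = 1 ∨ mu w = -1 := by decide +kernel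
    rcases h w with a | a <;> simp [muHom, a]
  simpa [h] using CT.isGen_of_isIrr (CT.isIrrCharacter_lin muHom)

theorem isGen_fix {X : Type} [Fintype X] [DecidableEq X] (act : Wr → X → X)
    (h1 : ∀ p, act 1 p = p) (h2 : ∀ v w p, act (v * w) p = act v (act w p)) :
    IsGeneralizedCharacter Wr
      (fun w => (((Finset.univ.filter fun p => act w p = p).card : ℤ) : ℂ)) := by
  letI : MulAction Wr X := { smul := act, one_smul := h1, mul_smul := h2 }
  have hπ := CT.isGen_of_isCharacter (CT.isCharacter_perm (G := Wr) X)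
  convert hπ using 1
  funext w
  have e : Nat.card (MulAction.fixedBy X w) =
      (Finset.univ.filter fun p => act w p = p).card := by
    rw [Nat.card_eq_fintype_card]
    exact Fintype.card_of_finset' _ fun p => by simp [MulAction.mem_fixedBy]; rfl
  simp [e]
  rfl

theorem isGen_fix4 : IsGeneralizedCharacter Wr (fun w => (fix4 w : ℂ)) :=
  isGen_fix act4 act4_one act4_mul
theorem isGen_fix6 : IsGeneralizedCharacter Wr (fun w => (fix6 w : ℂ)) :=
  isGen_fix act6 act6_one act6_mul
theorem isGen_fix9 : IsGeneralizedCharacter Wr (fun w => (fix9 w : ℂ)) :=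
  isGen_fix act9 act9_one act9_mul

theorem isGen_one' : IsGeneralizedCharacter Wr (fun _ => ((1 : ℤ) : ℂ)) := by
  simpa using CT.isGen_of_isCharacter (CT.isCharacter_one (G := Wr))

theorem isGen_two' : IsGeneralizedCharacter Wr (fun _ => ((2 : ℤ) : ℂ)) := by
  simpa using isGen_int_add isGen_one' isGen_one'

theorem isGen_nu : IsGeneralizedCharacter Wr (fun w => (nu w : ℂ)) :=
  isGen_int_sub isGen_fix4 (isGen_int_add isGen_one' isGen_lam)

theorem isGen_tE : IsGeneralizedCharacter Wr (fun w => (tE w : ℂ)) :=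
  isGen_int_sub (isGen_int_add (isGen_int_mul isGen_two' (isGen_int_add isGen_one' isGen_lam))
    isGen_nu) isGen_fix6

theorem isGen_tF : IsGeneralizedCharacter Wr (fun w => (tF w : ℂ)) :=
  isGen_int_sub (isGen_int_add (isGen_int_add isGen_one' isGen_nu) isGen_mu)
    (isGen_int_add (isGen_int_sub isGen_fix9 isGen_fix6) isGen_lam)

theorem isGen_tRho : IsGeneralizedCharacter Wr (fun w => (tRho w : ℂ)) :=
  isGen_int_add (isGen_int_mul (isGen_int_add isGen_one' isGen_lam)
    (isGen_int_add isGen_one' isGen_mu)) (isGen_int_mul isGen_two' isGen_nu)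

theorem isGen_tPhiA : IsGeneralizedCharacter Wr (fun w => (tPhiA w : ℂ)) :=
  isGen_int_mul (isGen_int_sub isGen_one' isGen_mu) (isGen_int_add isGen_one' isGen_lam)

theorem isGen_tPhiT : IsGeneralizedCharacter Wr (fun w => (tPhiT w : ℂ)) :=
  isGen_int_mul (isGen_int_add isGen_one' isGen_mu) (isGen_int_sub isGen_one' isGen_lam)

theorem isGen_dTables : ∀ F ∈ dTables, IsGeneralizedCharacter Wr (fun w => (F w : ℂ)) := by
  intro F hF
  simp only [dTables, List.mem_cons, List.not_mem_nil, or_false] at hF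
  rcases hF with rfl | rfl | rfl | rfl
  · exact isGen_tE
  · exact isGen_int_mul isGen_mu isGen_tE
  · exact isGen_tF
  · exact isGen_int_mul isGen_lam isGen_tF

theorem class_of_isGen {f : Wr → ℤ} (hf : IsGeneralizedCharacter Wr (fun w => (f w : ℂ)))
    (v w : Wr) : f (v * w * v⁻¹) = f w := by
  have := CT.isClassFunction_of_isGen hf w v
  exact_mod_cast this

/-- Type of the axis involutions. -/
def tyA (w : Wr) : Bool :=
  !w.s && ((decide (cl w.x = 2) && decide (cl w.y = 0)) || (decide (cl w.x = 0) && decide (cl w.y = 2)))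
/-- Type of the interchanging involutions. -/
def tyT (w : Wr) : Bool := w.s && decide (w.x * w.y = 1)
/-- Type of the central involutions. -/
def tyC (w : Wr) : Bool := !w.s && decide (cl w.x = 2) && decide (cl w.y = 2)

/-- Dot product. -/
def dotD (F F' : Wr → ℤ) : ℤ := ∑ w : Wr, F w * F' w

/-- Pair sum. -/
def pairD (P Q : Wr → Bool) (F : Wr → ℤ) : ℤ :=
  ∑ y ∈ Finset.univ.filter (fun w : Wr => P w = true),
    ∑ z ∈ Finset.univ.filter (fun w : Wr => Q w = true), F (y * z)

theorem dotD_values :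
    dotD tE tE = 288 ∧ dotD tE' tE' = 288 ∧ dotD tF tF = 288 ∧ dotD tF' tF' = 288 ∧
    dotD tE (fun _ => 1) = 72 ∧ dotD tE' (fun _ => 1) = 0 ∧ dotD tF (fun _ => 1) = 72 ∧
    dotD tF' (fun _ => 1) = 0 ∧
    dotD tE tE' = 72 ∧ dotD tE tF = 144 ∧ dotD tE tF' = 144 ∧ dotD tE' tF = 144 ∧
    dotD tE' tF' = 144 ∧ dotD tF tF' = 72 := by decide +kernel

theorem support_facts : ∀ w : Wr,
    tE w + tE' w + tF w + tF' w = (if w = 1 then 0 else if tRho w = 0 then 0 else 18) ∧
    tRho w = (if w.s = false ∧ cl w.x ≠ 2 ∧ cl w.y ≠ 2 then 8 else 0) ∧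
    tPhiA w = (if tyA w = true then 4 else if tE w ≠ tE' w then 4 else 0) ∧
    tPhiT w = (if tyT w = true then 4 else if tF w ≠ tF' w then 4 else 0) ∧
    2 * (tE w - tE' w) = (if tyA w = true then 0 else 3 * tPhiA w) ∧
    2 * (tF w - tF' w) = (if tyT w = true then 0 else 3 * tPhiT w) := by decide +kernel

theorem card_types :
    (Finset.univ.filter fun w => tyA w = true).card = 6 ∧
    (Finset.univ.filter fun w => tyT w = true).card = 6 := by decide +kernel

theorem pairD_iso :
    pairD tyA tyA tE = 36 ∧ pairD tyA tyA tE' = 36 ∧ pairD tyA tyA tF = 72 ∧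
    pairD tyA tyA tF' = 72 ∧ pairD tyA tyT tE = 0 ∧ pairD tyA tyT tE' = 0 ∧
    pairD tyA tyT tF = 0 ∧ pairD tyA tyT tF' = 0 ∧ pairD tyT tyT tE = 72 ∧
    pairD tyT tyT tE' = 72 ∧ pairD tyT tyT tF = 36 ∧ pairD tyT tyT tF' = 36 := by decide +kernel

theorem pairD_fused :
    pairD tyA (fun w => tyT w || tyC w) tE = 108 ∧ pairD tyA (fun w => tyT w || tyC w) tE' = -108 ∧
    pairD tyA (fun w => tyT w || tyC w) tF = 0 ∧ pairD tyA (fun w => tyT w || tyC w) tF' = 0 ∧
    pairD (fun w => tyT w || tyC w) (fun w => tyT w || tyC w) tE = 396 ∧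
    pairD (fun w => tyT w || tyC w) (fun w => tyT w || tyC w) tE' = 396 ∧
    pairD (fun w => tyT w || tyC w) (fun w => tyT w || tyC w) tF = 576 ∧
    pairD (fun w => tyT w || tyC w) (fun w => tyT w || tyC w) tF' = 144 := by decide +kernel

theorem pairD_fused' :
    pairD tyT (fun w => tyA w || tyC w) tF = 108 ∧ pairD tyT (fun w => tyA w || tyC w) tF' = -108 ∧
    pairD tyT (fun w => tyA w || tyC w) tE = 0 ∧ pairD tyT (fun w => tyA w || tyC w) tE' = 0 ∧
    pairD (fun w => tyA w || tyC w) (fun w => tyA w || tyC w) tF = 396 ∧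
    pairD (fun w => tyA w || tyC w) (fun w => tyA w || tyC w) tF' = 396 ∧
    pairD (fun w => tyA w || tyC w) (fun w => tyA w || tyC w) tE = 576 ∧
    pairD (fun w => tyA w || tyC w) (fun w => tyA w || tyC w) tE' = 144 := by decide +kernel

/-- Representative of the axis involutions. -/
def rA : Wr := ⟨sr 0, 1, false⟩
/-- Representative of the interchanging involutions. -/
def rT : Wr := ⟨1, 1, true⟩
/-- Representative of the central involutions. -/
def rC : Wr := ⟨sr 0, sr 0, false⟩

theorem types_of_invol : ∀ w : Wr, w * w = 1 → w ≠ 1 → (tyA w || tyT w || tyC w) = true := by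
  decide +kernel

theorem ty_conj : ∀ w : Wr,
    (tyA w = true → ∃ v : Wr, v * rA * v⁻¹ = w) ∧
    (tyT w = true → ∃ v : Wr, v * rT * v⁻¹ = w) ∧
    (tyC w = true → ∃ v : Wr, v * rC * v⁻¹ = w) := by decide +kernel

/-- Rotations in both coordinates. -/
def rotD (w : Wr) : Bool := !w.s && decide (cl w.x ≠ 2) && decide (cl w.y ≠ 2)

theorem card_rotD : (Finset.univ.filter fun w : Wr => rotD w = true).card = 9 := by decide +kernel

theorem rotD_of_pow : ∀ w : Wr, w * w * w = 1 → rotD w = true := by decide +kernel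

theorem rotD_comm : ∀ v w : Wr, rotD v = true → rotD w = true → v * w = w * v := by decide +kernel

theorem rotD_cube : ∀ w : Wr, rotD w = true → w * w * w = 1 := by decide +kernel

theorem card_Wr : Fintype.card Wr = 72 := by decide +kernel

/-- A three element and the involution it centralizes. -/
def zA : Wr := ⟨1, r 1, false⟩
/-- A three element and the involution it centralizes. -/
def zT : Wr := ⟨r 1, r 1, false⟩

theorem fusion_facts :
    rA * zA = zA * rA ∧ rT * zT = zT * rT ∧ zA * zA * zA = 1 ∧ zT * zT * zT = 1 ∧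
    zA ≠ 1 ∧ zT ≠ 1 ∧ (∀ v : Wr, v * zA * v⁻¹ ≠ zT ∧ v * zA * v⁻¹ ≠ zT⁻¹) ∧
    (Finset.univ.filter fun w : Wr => w * rT = rT * w).card = 12 ∧
    rA * rA = 1 ∧ rT * rT = 1 ∧ rC * rC = 1 ∧ rA ≠ 1 ∧ rT ≠ 1 ∧ rC ≠ 1 ∧
    tyA rA = true ∧ tyT rT = true ∧ tyC rC = true := by decide +kernel

end Cfsg.Agent.NineD8
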