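import Cfsg.Agent.Lib.Recog.NineD8.Arith
import Cfsg.Agent.Lib.Recog.NineD8.Model
import Cfsg.Agent.Lib.Recog.TISetup.Basic
import Cfsg.Agent.Lib.CT.FusionInvolutionTwo
import Cfsg.Agent.Lib.CT.Kernel

/-!
A group with a subgroup `3^2 : D₈` containing the centralizers of its 3-elements is not simple.
-/

set_option autoImplicit false
set_option linter.unusedSectionVars false
set_option linter.style.haveILetI false

namespace Cfsg.Agent.NineD8

open TISetup
open scoped ComplexConjugate

universe u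

variable {G : Type u} [Group G]

theorem support_D : ∀ w : Wr, (tE w ≠ 0 ∨ tE' w ≠ 0 ∨ tF w ≠ 0 ∨ tF' w ≠ 0) →
    rotD (w * w) = true ∧ w * w ≠ 1 := by decide +kernel

theorem rotD_sq_ne : ∀ w : Wr, rotD w = true → w ≠ 1 → w * w ≠ 1 := by decide +kernel

theorem rho_decomp : ∀ w : Wr,
    9 * tRho w = 4 * (tE w + tE' w + tF w + tF' w) + (if w = 1 then 72 else 0) ∧
    3 * tPhiA w = 2 * (tE w - tE' w) + (if tyA w = true then 12 else 0) ∧
    3 * tPhiT w = 2 * (tF w - tF' w) + (if tyT w = true then 12 else 0) := by decide +kernel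

theorem cent_T_card :
    (Finset.univ.filter fun w : Wr => w * rT = rT * w).card = 12 := fusion_facts.2.2.2.2.2.2.2.1

theorem wr_noncomm : rA * rT ≠ rT * rA := by decide +kernel

/-- The hypotheses with a chosen identification with the model. -/
structure Setup (H T : Subgroup G) (e : H ≃* Wr) : Prop where
  hTH : T ≤ H
  hT : Nat.card T = 9
  hT3 : ∀ x ∈ T, x ^ 3 = 1
  hN : Subgroup.normalizer (T : Set G) = H
  hC : ∀ t ∈ T, t ≠ 1 → Subgroup.centralizer ({t} : Set G) ≤ H

variable {H T : Subgroup G} {e : H ≃* Wr} [Fintype G] [Fintype H]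

namespace Setup

theorem card_H (_S : Setup H T e) : Nat.card H = 72 := by
  rw [Nat.card_congr e.toEquiv, Nat.card_eq_fintype_card, card_Wr]

theorem mem_T_iff (S : Setup H T e) (h : H) : (h : G) ∈ T ↔ rotD (e h) = true := by
  classical
  have h1 : Finset.univ.filter (fun h : H => (h : G) ∈ T) ⊆
      Finset.univ.filter (fun h : H => rotD (e h) = true) := by
    intro x hx
    simp only [Finset.mem_filter, Finset.mem_univ, true_and] at hx ⊢
    refine rotD_of_pow _ ?_
    have : x ^ 3 = 1 := Subtype.ext (by simpa using S.hT3 _ hx)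
    rw [← map_mul, ← map_mul, ← pow_two, ← pow_succ, this, map_one]
  have h2 : (Finset.univ.filter fun h : H => rotD (e h) = true).card ≤
      (Finset.univ.filter fun h : H => (h : G) ∈ T).card := by
    have a : (Finset.univ.filter fun h : H => rotD (e h) = true).card ≤
        (Finset.univ.filter fun w : Wr => rotD w = true).card :=
      Finset.card_le_card_of_injOn e (fun x hx => by simpa using hx)
        fun a _ b _ h => e.injective h
    have b : (Finset.univ.filter fun h : H => (h : G) ∈ T).card = Nat.card T := by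
      rw [← Fintype.card_subtype, ← Nat.card_eq_fintype_card]
      exact Nat.card_congr ⟨fun x => ⟨(x.1 : G), x.2⟩, fun x => ⟨⟨(x : G), S.hTH x.2⟩, x.2⟩,
        fun x => rfl, fun x => rfl⟩
    rw [card_rotD] at a
    rw [b, S.hT]
    exact a
  simpa using Finset.ext_iff.mp (Finset.eq_of_subset_of_card_le h1 h2) h

theorem T_comm (S : Setup H T e) {x y : G} (hx : x ∈ T) (hy : y ∈ T) : x * y = y * x := by
  have he := rotD_comm _ _ ((S.mem_T_iff ⟨x, S.hTH hx⟩).mp hx)
    ((S.mem_T_iff ⟨y, S.hTH hy⟩).mp hy)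
  rw [← map_mul, ← map_mul] at he
  exact congrArg Subtype.val (e.injective he)

theorem mem_H_of_map (S : Setup H T e) {g : G} (sub : ∀ x ∈ T, g * x * g⁻¹ ∈ T) : g ∈ H := by
  rw [← S.hN, Subgroup.mem_normalizer_iff]
  intro x
  refine ⟨sub x, fun hx => ?_⟩
  have hmap : T.map (MulAut.conj g).toMonoidHom = T := by
    refine Subgroup.eq_of_le_of_card_ge (Subgroup.map_le_iff_le_comap.mpr fun y hy => sub y hy) ?_
    rw [Subgroup.card_map_of_injective (MulAut.conj g).injective]
  rw [← hmap] at hx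
  obtain ⟨y, hy, he⟩ := Subgroup.mem_map.mp hx
  have : y = x := (MulAut.conj g).injective (by simpa using he)
  exact this ▸ hy

/-- `H` controls the fusion of the elements with square in `T`. -/
theorem fusion (S : Setup H T e) (h : H) (hh : rotD (e h * e h) = true) (hne' : e h * e h ≠ 1)
    (g : G) (hg : g * (h : G) * g⁻¹ ∈ H) : g ∈ H := by
  have hs : (h : G) * h ∈ T := by
    rw [← Subgroup.coe_mul, S.mem_T_iff, map_mul]
    exact hh
  have hs' : g * ((h : G) * h) * g⁻¹ ∈ T := by
    have hmem : g * ((h : G) * h) * g⁻¹ ∈ H := by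
      rw [show g * ((h : G) * h) * g⁻¹ = g * h * g⁻¹ * (g * h * g⁻¹) by group]
      exact H.mul_mem hg hg
    refine (S.mem_T_iff ⟨_, hmem⟩).mpr (rotD_of_pow _ ?_)
    have : (⟨_, hmem⟩ : H) ^ 3 = 1 := Subtype.ext (by simp [conj_pow, S.hT3 _ hs])
    rw [← map_mul, ← map_mul, ← pow_two, ← pow_succ, this, map_one]
  have hne : g * ((h : G) * h) * g⁻¹ ≠ 1 := fun he => hne' (by
    rw [← map_mul, show h * h = 1 from Subtype.ext (by simpa using he), map_one])
  refine S.mem_H_of_map fun x hx => ?_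
  have hc : g * x * g⁻¹ ∈ H := by
    refine S.hC _ hs' hne (Subgroup.mem_centralizer_singleton_iff.mpr ?_)
    calc g * x * g⁻¹ * (g * ((h : G) * h) * g⁻¹) = g * (x * ((h : G) * h)) * g⁻¹ := by group
      _ = g * ((h : G) * h * x) * g⁻¹ := by rw [S.T_comm hx hs]
      _ = g * ((h : G) * h) * g⁻¹ * (g * x * g⁻¹) := by group
  refine (S.mem_T_iff ⟨_, hc⟩).mpr (rotD_of_pow _ ?_)
  have : (⟨g * x * g⁻¹, hc⟩ : H) ^ 3 = 1 := Subtype.ext (by simp [conj_pow, S.hT3 _ hx])
  rw [← map_mul, ← map_mul, ← pow_two, ← pow_succ, this, map_one]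

theorem fusion_T (S : Setup H T e) {z : H} (hz : rotD (e z) = true) (hz1 : e z ≠ 1) (g : G)
    (hg : g * (z : G) * g⁻¹ ∈ H) : g ∈ H :=
  S.fusion z (by
    have h := (S.mem_T_iff z).mpr hz
    rw [← map_mul, ← S.mem_T_iff, Subgroup.coe_mul]
    exact T.mul_mem h h) (rotD_sq_ne _ hz hz1) g hg

/-- The two outer types are never conjugate. -/
theorem not_conj_AT (S : Setup H T e) {a b : H} (ea : e a = rA) (eb : e b = rT) :
    ¬ IsConj (a : G) (b : G) := by
  intro hab
  classical
  haveI : Fact (Nat.Prime 3) := ⟨Nat.prime_three⟩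
  obtain ⟨fAz, fTz, fA3, fT3, fA1, fT1, fconj, -, -, -, -, -, -, -, -⟩ := fusion_facts
  obtain ⟨g, hg⟩ := isConj_iff.mp hab
  obtain ⟨z, ez⟩ := e.surjective zA
  obtain ⟨z', ez'⟩ := e.surjective zT
  set L := Subgroup.centralizer ({(b : G)} : Set G) with hL
  have hz'3 : (z' : G) ^ 3 = 1 := by
    have : z' * z' * z' = 1 := e.injective (by rw [map_mul, map_mul, ez', map_one]; exact fT3)
    have := congrArg Subtype.val this
    simpa [pow_succ, pow_two] using this
  have hz'1 : z' ≠ 1 := fun h => by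
    rw [h, map_one] at ez'
    exact fT1 ez'.symm
  have hord : orderOf (z' : G) = 3 :=
    orderOf_eq_prime hz'3 fun h => hz'1 (Subtype.ext h)
  have hrotz' : rotD (e z') = true := rotD_of_pow _ (by rw [ez']; exact fT3)
  have hz'L : (z' : G) ∈ L := by
    refine Subgroup.mem_centralizer_singleton_iff.mpr ?_
    have : z' * b = b * z' := e.injective (by rw [map_mul, map_mul, ez', eb]; exact fTz.symm)
    exact congrArg Subtype.val this
  set Z := (Subgroup.zpowers (z' : G)).subgroupOf L with hZ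
  have hZle : Subgroup.zpowers (z' : G) ≤ L := Subgroup.zpowers_le.mpr hz'L
  have hZcard : Nat.card Z = 3 := by
    rw [Nat.card_congr (Subgroup.subgroupOfEquivOfLe hZle).toEquiv, Nat.card_zpowers, hord]
  have hNH : ∀ x : L, x ∈ Subgroup.normalizer (Z : Set L) → (x : G) ∈ H := by
    intro x hx
    refine S.fusion_T (z := z') hrotz' (fun h => fT1 (ez'.symm.trans h)) _ ?_
    have h1 : (⟨(z' : G), hz'L⟩ : L) ∈ Z := Subgroup.mem_zpowers (z' : G)
    have h2 : x * ⟨(z' : G), hz'L⟩ * x⁻¹ ∈ Z := (Subgroup.mem_normalizer_iff.mp hx _).mp h1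
    have h3 : (x : G) * z' * (x : G)⁻¹ ∈ Subgroup.zpowers (z' : G) := h2
    exact Subgroup.zpowers_le.mpr z'.2 h3
  have hidx : ¬ 3 ∣ Z.index := by
    intro h
    have h9 : 9 ∣ Nat.card L := by
      rw [← Subgroup.card_mul_index Z, hZcard]
      exact mul_dvd_mul_left 3 h
    have h2 := Sylow.card_normalizer_modEq_card (p := 3) (n := 1) (H := Z) (by simpa using hZcard)
    -- the normalizer embeds into the centralizer of `b` in `H`
    set K := Subgroup.centralizer ({b} : Set H) with hK
    have hKcard : Nat.card K = 12 := by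
      rw [← cent_T_card, ← Fintype.card_subtype, ← Nat.card_eq_fintype_card]
      refine Nat.card_congr (e.toEquiv.subtypeEquiv fun x => ?_)
      rw [← eb]
      simp only [MulEquiv.toEquiv_eq_coe, EquivLike.coe_coe, ← map_mul, e.injective.eq_iff]
      exact Subgroup.mem_centralizer_singleton_iff
    have hle : Nat.card (Subgroup.normalizer (Z : Set L)) ∣ Nat.card K := by
      refine Subgroup.card_dvd_of_injective
        ({ toFun := fun x => ⟨⟨((x : L) : G), hNH _ x.2⟩, Subgroup.mem_centralizer_singleton_iff.mpr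
            (Subtype.ext (Subgroup.mem_centralizer_singleton_iff.mp (x : L).2))⟩
           map_one' := rfl
           map_mul' := fun _ _ => rfl } : Subgroup.normalizer (Z : Set L) →* K) ?_
      intro x y hxy
      exact Subtype.ext (Subtype.ext (congrArg (fun t : K => ((t : H) : G)) hxy))
    rw [hKcard] at hle
    have h27 : 3 ∣ Nat.card (Subgroup.normalizer (Z : Set L)) :=
      hZcard ▸ Subgroup.card_dvd_of_le Subgroup.le_normalizer
    have hpos : 0 < Nat.card (Subgroup.normalizer (Z : Set L)) := Nat.card_pos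
    have h9' : 9 ∣ Nat.card (Subgroup.normalizer (Z : Set L)) := by
      unfold Nat.ModEq at h2
      norm_num [-Nat.card_eq_fintype_card] at h2
      omega
    exact absurd (h9'.trans hle) (by norm_num)
  set P : Sylow 3 L := (IsPGroup.of_card (n := 1) (by simpa using hZcard) : IsPGroup 3 Z).toSylow hidx
  have hzL : g * (z : G) * g⁻¹ ∈ L := by
    refine Subgroup.mem_centralizer_singleton_iff.mpr ?_
    have hza : z * a = a * z := e.injective (by rw [map_mul, map_mul, ez, ea]; exact fAz.symm)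
    have hza' : (z : G) * a = a * z := congrArg Subtype.val hza
    rw [← hg]
    calc g * (z : G) * g⁻¹ * (g * a * g⁻¹) = g * ((z : G) * a) * g⁻¹ := by group
      _ = g * ((a : G) * z) * g⁻¹ := by rw [hza']
      _ = g * a * g⁻¹ * (g * z * g⁻¹) := by group
  have hz3 : (z : G) ^ 3 = 1 := by
    have : z * z * z = 1 := e.injective (by rw [map_mul, map_mul, ez, map_one]; exact fA3)
    have := congrArg Subtype.val this
    simpa [pow_succ, pow_two] using this
  set y : L := ⟨_, hzL⟩ with hy
  have hy3 : y ^ 3 ^ 1 = 1 := Subtype.ext (by simp [hy, conj_pow, hz3])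
  obtain ⟨Q, hQ⟩ := IsPGroup.exists_le_sylow
    (show IsPGroup 3 (Subgroup.zpowers y) from fun w => ⟨1, by
      obtain ⟨m, hm⟩ := Subgroup.mem_zpowers_iff.mp w.2
      refine Subtype.ext ?_
      simp only [Subgroup.coe_pow, Subgroup.coe_one, ← hm]
      rw [← zpow_natCast, ← zpow_mul, mul_comm, zpow_mul, zpow_natCast, hy3, one_zpow]⟩)
  obtain ⟨l, hl⟩ := MulAction.exists_smul_eq L Q P
  have hmem : l * y * l⁻¹ ∈ Z := by
    have h1 : MulAut.conj l y ∈ ((l • Q : Sylow 3 L) : Subgroup L) := by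
      rw [Sylow.coe_subgroup_smul]
      exact Subgroup.smul_mem_pointwise_smul _ _ _ (hQ (Subgroup.mem_zpowers y))
    rw [hl] at h1
    exact h1
  have hmem' : (l : G) * g * z * ((l : G) * g)⁻¹ ∈ Subgroup.zpowers (z' : G) := by
    have : ((l * y * l⁻¹ : L) : G) ∈ Subgroup.zpowers (z' : G) := hmem
    simpa [hy, mul_assoc] using this
  have hk : (l : G) * g ∈ H := S.fusion_T (z := z) (rotD_of_pow _ (by rw [ez]; exact fA3))
    (fun h => fA1 (ez.symm.trans h)) _ (Subgroup.zpowers_le.mpr z'.2 hmem')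
  rw [← mem_powers_iff_mem_zpowers] at hmem'
  obtain ⟨n, hn⟩ := hmem'
  have hn' : (z' : G) ^ (n % 3) = (l : G) * g * z * ((l : G) * g)⁻¹ := by
    rw [← pow_eq_pow_mod n hz'3]
    exact hn
  have heq : z' ^ (n % 3) = (⟨_, hk⟩ : H) * z * (⟨_, hk⟩ : H)⁻¹ :=
    Subtype.ext (by simpa using hn')
  have := congrArg e heq
  rw [map_pow, ez', map_mul, map_mul, map_inv, ez] at this
  rcases (show n % 3 = 0 ∨ n % 3 = 1 ∨ n % 3 = 2 by omega) with h | h | h <;> rw [h] at this
  · rw [pow_zero, eq_comm, conj_eq_one_iff] at this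
    exact fA1 this
  · rw [pow_one] at this
    exact (fconj _).1 this.symm
  · rw [show zT ^ 2 = zT⁻¹ from eq_inv_of_mul_eq_one_left (by rw [pow_two]; exact fT3)] at this
    exact (fconj _).2 this.symm

/-- A table as a function on `H`. -/
def fn (e : H ≃* Wr) (F : Wr → ℤ) : H → ℤ := fun h => F (e h)

theorem sum_model (φ : Wr → ℤ) : ∑ h : H, φ (e h) = ∑ w : Wr, φ w :=
  Fintype.sum_equiv e.toEquiv _ _ fun _ => rfl

theorem good (_S : Setup H T e) {F : Wr → ℤ} (hF : F ∈ dTables) : Good H (fn e F) :=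
  ⟨fun x g => by simp [fn, class_of_isGen (isGen_dTables F hF)],
    CT.isGen_comp e.toMonoidHom (isGen_dTables F hF),
    fun h hh => dTables_sq F hF _ (by rw [← map_mul, hh, map_one])⟩

theorem controls (S : Setup H T e) {F : Wr → ℤ} (hF : F ∈ dTables) (h : H) (hh : fn e F h ≠ 0)
    (g : G) (hg : g * (h : G) * g⁻¹ ∈ H) : g ∈ H := by
  have hd := support_D (e h) (by
    simp only [dTables, List.mem_cons, List.not_mem_nil, or_false] at hF
    rcases hF with rfl | rfl | rfl | rfl <;> simp only [fn] at hh <;> simp [hh])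
  exact S.fusion h hd.1 hd.2 g hg

theorem dot (S : Setup H T e) {F F' : Wr → ℤ} (hF : F ∈ dTables) (hF' : F' ∈ dTables) :
    72 * ∑ χ : IrrCharacter G, coef (fn e F) χ * coef (fn e F') χ = dotD F F' := by
  have h := coef_dot (f := fn e F) (f' := fn e F')
    (fun h hh => hh.2.elim (fun a => S.controls hF h a) fun a => S.controls hF' h a)
    (S.good hF) (S.good hF')
  rw [S.card_H] at h
  refine h.trans ?_
  exact Fintype.sum_equiv e.toEquiv _ _ fun _ => rfl

theorem dot_one (S : Setup H T e) {F : Wr → ℤ} (hF : F ∈ dTables) :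
    72 * coef (fn e F) (CT.trivIrr G) = dotD F (fun _ => 1) := by
  have h := coef_lin (S.good hF) (CT.trivIrr G) (fun _ => 1) (fun h => by simp)
  rw [S.card_H] at h
  refine h.trans ?_
  exact Fintype.sum_equiv e.toEquiv _ _ fun _ => rfl

theorem coef_sum (S : Setup H T e) {F : Wr → ℤ} (hF : F ∈ dTables) (χ : IrrCharacter G) :
    ∑ h : H, (F (e h) : ℂ) * conj ((χ : G → ℂ) h) = 72 * (coef (fn e F) χ : ℂ) := by
  rw [← coef_spec (S.good hF) χ,
    CT.frobenius_reciprocity H _ (CT.isClassFunction_of_isIrr χ.2), classInner, S.card_H]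
  push_cast
  simp only [fn]
  field_simp

theorem inner_int (S : Setup H T e) {θ : Wr → ℤ}
    (hθ : IsGeneralizedCharacter Wr (fun w => (θ w : ℂ))) (χ : IrrCharacter G) :
    ∃ m : ℤ, ∑ h : H, (θ (e h) : ℂ) * conj ((χ : G → ℂ) h) = 72 * (m : ℂ) := by
  have hg : IsGeneralizedCharacter H (fun h => (θ (e h) : ℂ)) := CT.isGen_comp e.toMonoidHom hθ
  obtain ⟨m, hm⟩ := CT.isGen_inner_int (CT.isGen_indFun H hg) (CT.isGen_of_isIrr χ.2)
  refine ⟨m, ?_⟩
  rw [CT.frobenius_reciprocity H _ (CT.isClassFunction_of_isIrr χ.2), classInner, S.card_H] at hm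
  rw [← hm]
  push_cast
  field_simp

theorem conj_of (S : Setup H T e) {h0 h : H} {rr : Wr} (e0 : e h0 = rr)
    (hh : ∃ v : Wr, v * rr * v⁻¹ = e h) : IsConj (h0 : G) (h : G) := by
  obtain ⟨v, hv⟩ := hh
  obtain ⟨k, rfl⟩ := e.surjective v
  rw [← e0, ← map_inv, ← map_mul, ← map_mul] at hv
  exact isConj_iff.mpr ⟨k, congrArg Subtype.val (e.injective hv)⟩

theorem nine (S : Setup H T e) (χ : IrrCharacter G) :
    (cdeg χ + 4 * (coef (fn e tE) χ + coef (fn e tE') χ + coef (fn e tF) χ + coef (fn e tF') χ))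
      % 9 = 0 := by
  classical
  obtain ⟨m, hm⟩ := S.inner_int isGen_tRho χ
  have h1 : ∑ h : H, (if e h = 1 then (72 : ℂ) else 0) * conj ((χ : G → ℂ) h) =
      72 * (cdeg χ : ℂ) := by
    rw [Finset.sum_eq_single (1 : H) (fun h _ hh => by
      rw [if_neg (fun a => hh (e.injective (a.trans e.map_one.symm))), zero_mul]) (by simp),
      if_pos e.map_one, Subgroup.coe_one, cdeg_eq, map_intCast]
  have key : (9 : ℂ) * (72 * m) = 4 * (72 * coef (fn e tE) χ + 72 * coef (fn e tE') χ +
      72 * coef (fn e tF) χ + 72 * coef (fn e tF') χ) + 72 * (cdeg χ : ℂ) := by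
    rw [← hm, ← S.coef_sum (by simp [dTables]), ← S.coef_sum (by simp [dTables]),
      ← S.coef_sum (by simp [dTables]), ← S.coef_sum (by simp [dTables]), ← h1]
    simp only [Finset.mul_sum, ← Finset.sum_add_distrib]
    refine Finset.sum_congr rfl fun h _ => ?_
    have h' := congrArg (fun k : ℤ => (k : ℂ)) (rho_decomp (e h)).1
    push_cast at h'
    linear_combination conj ((χ : G → ℂ) h) * h'
  have : 9 * (72 * m) = 4 * (72 * coef (fn e tE) χ + 72 * coef (fn e tE') χ +
      72 * coef (fn e tF) χ + 72 * coef (fn e tF') χ) + 72 * cdeg χ := by exact_mod_cast key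
  omega

theorem three_of (S : Setup H T e) {rr : Wr} {ty : Wr → Bool} {Φ A A' : Wr → ℤ}
    (hΦ : IsGeneralizedCharacter Wr (fun w => (Φ w : ℂ))) (hA : A ∈ dTables) (hA' : A' ∈ dTables)
    (hdec : ∀ w, 3 * Φ w = 2 * (A w - A' w) + (if ty w = true then 12 else 0))
    (hcard : (Finset.univ.filter fun w => ty w = true).card = 6)
    (hconj : ∀ w, ty w = true → ∃ v : Wr, v * rr * v⁻¹ = w) {a : H} (ea : e a = rr)
    (hu : (a : G) * a = 1) (χ : IrrCharacter G) :
    (cdeg χ + (cval (a : G) χ - cdeg χ) - (coef (fn e A) χ - coef (fn e A') χ)) % 3 = 0 := by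
  classical
  obtain ⟨m, hm⟩ := S.inner_int hΦ χ
  have h1 : ∑ h : H, (if ty (e h) = true then (12 : ℂ) else 0) * conj ((χ : G → ℂ) h) =
      72 * (cval (a : G) χ : ℂ) := by
    have hh : ∀ h : H, (if ty (e h) = true then (12 : ℂ) else 0) * conj ((χ : G → ℂ) h) =
        if ty (e h) = true then 12 * (cval (a : G) χ : ℂ) else 0 := by
      intro h
      split_ifs with hy
      · obtain ⟨c, hc⟩ := isConj_iff.mp (S.conj_of ea (hconj _ hy))
        rw [← hc, CT.isClassFunction_of_isIrr χ.2, cval_eq hu, map_intCast]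
      · rw [zero_mul]
    rw [Finset.sum_congr rfl fun h _ => hh h, ← Finset.sum_filter, Finset.sum_const,
      show (Finset.univ.filter fun h : H => ty (e h) = true).card = 6 from by
        rw [← hcard]
        exact Finset.card_equiv e.toEquiv fun i => by simp]
    rw [nsmul_eq_mul]
    push_cast
    ring
  have key : (3 : ℂ) * (72 * m) = 2 * (72 * coef (fn e A) χ - 72 * coef (fn e A') χ) +
      72 * (cval (a : G) χ : ℂ) := by
    rw [← hm, ← S.coef_sum hA, ← S.coef_sum hA', ← h1]
    simp only [Finset.mul_sum, ← Finset.sum_sub_distrib, ← Finset.sum_add_distrib]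
    refine Finset.sum_congr rfl fun h _ => ?_
    have h' := congrArg (fun k : ℤ => (k : ℂ)) (hdec (e h))
    push_cast at h'
    linear_combination conj ((χ : G → ℂ) h) * h'
  have : 3 * (72 * m) = 2 * (72 * coef (fn e A) χ - 72 * coef (fn e A') χ) +
      72 * cval (a : G) χ := by exact_mod_cast key
  omega

open Classical in
/-- The pairs of involutions give the values of the forms. -/
theorem pairs (S : Setup H T e) {F : Wr → ℤ} (hF : F ∈ dTables) {u u' : G} (hu : u * u = 1)
    (hu' : u' * u' = 1) (P Q : Wr → Bool) (hP : ∀ h : H, IsConj u (h : G) ↔ P (e h) = true)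
    (hQ : ∀ h : H, IsConj u' (h : G) ↔ Q (e h) = true) :
    ∑ χ : IrrCharacter G, (coef (fn e F) χ : ℚ) *
        ((Nat.card {x : G // IsConj u x} : ℚ) * ((cval u χ - cdeg χ : ℤ) : ℚ)) *
        ((Nat.card {x : G // IsConj u' x} : ℚ) * ((cval u' χ - cdeg χ : ℤ) : ℚ)) / (cdeg χ : ℚ) =
      (Nat.card G : ℚ) * (pairD P Q F : ℚ) / 72 := by
  have hf := S.good hF
  have e0 := CT.involution_pair_sum_two (H := H) hu hu' (θ := fun h => (fn e F h : ℂ))
    (fun h hh => S.controls hF h fun a => hh (by simp [a]))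
  have hsum : (∑ y ∈ Finset.univ.filter (fun y : H => IsConj u (y : G)),
      ∑ z ∈ Finset.univ.filter (fun z : H => IsConj u' (z : G)), ((fn e F (y * z) : ℤ) : ℂ)) =
      ((pairD P Q F : ℤ) : ℂ) := by
    rw [pairD]
    push_cast
    refine Finset.sum_equiv e.toEquiv (fun i => by simpa only [Finset.mem_filter, Finset.mem_univ, true_and, MulEquiv.toEquiv_eq_coe, EquivLike.coe_coe, MulEquiv.coe_toEquiv] using hP i) fun y _ => ?_
    refine Finset.sum_equiv e.toEquiv (fun i => by simpa only [Finset.mem_filter, Finset.mem_univ, true_and, MulEquiv.toEquiv_eq_coe, EquivLike.coe_coe, MulEquiv.coe_toEquiv] using hQ i) fun z _ => ?_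
    simp [fn]
  replace e0 := e0.trans (show _ = (Nat.card H : ℂ)⁻¹ * ((pairD P Q F : ℤ) : ℂ) by
    rw [← hsum]
    congr! 3 <;> exact Finset.filter_congr_decidable ..)
  rw [S.card_H] at e0
  simp only [coef_spec hf, cdeg_eq, cval_eq hu, cval_eq hu'] at e0
  have hG : (Nat.card G : ℚ) ≠ 0 := Nat.cast_ne_zero.mpr Nat.card_pos.ne'
  set K : ℚ := (Nat.card {x : G // IsConj u x} : ℚ) with hK
  set K' : ℚ := (Nat.card {x : G // IsConj u' x} : ℚ) with hK'
  have e1 : K * K' / (Nat.card G : ℚ) * ∑ χ : IrrCharacter G,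
      (coef (fn e F) χ : ℚ) * ((cval u χ : ℚ) * cval u' χ) / (cdeg χ : ℚ) =
      (pairD P Q F : ℚ) / 72 := by
    have : (((K * K' / (Nat.card G : ℚ) * ∑ χ : IrrCharacter G,
        (coef (fn e F) χ : ℚ) * ((cval u χ : ℚ) * cval u' χ) / (cdeg χ : ℚ)) : ℚ) : ℂ) =
        (((pairD P Q F : ℚ) / 72 : ℚ) : ℂ) := by
      simp only [hK, hK']
      push_cast
      rw [e0]
      ring
    exact_mod_cast this
  have z1 : ∑ χ : IrrCharacter G, (coef (fn e F) χ : ℚ) * cdeg χ = 0 := by
    exact_mod_cast coef_deg hf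
  have z2 : ∑ χ : IrrCharacter G, (coef (fn e F) χ : ℚ) * cval u χ = 0 := by
    exact_mod_cast coef_val hf hu
  have z3 : ∑ χ : IrrCharacter G, (coef (fn e F) χ : ℚ) * cval u' χ = 0 := by
    exact_mod_cast coef_val hf hu'
  have e2 : ∑ χ : IrrCharacter G, (coef (fn e F) χ : ℚ) *
      (K * ((cval u χ - cdeg χ : ℤ) : ℚ)) * (K' * ((cval u' χ - cdeg χ : ℤ) : ℚ)) / (cdeg χ : ℚ) =
      K * K' * (∑ χ : IrrCharacter G,
        (coef (fn e F) χ : ℚ) * ((cval u χ : ℚ) * cval u' χ) / (cdeg χ : ℚ)) := by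
    rw [← sub_eq_zero]
    calc _ = K * K' * (∑ χ : IrrCharacter G, ((coef (fn e F) χ : ℚ) * cdeg χ -
          (coef (fn e F) χ : ℚ) * cval u χ - (coef (fn e F) χ : ℚ) * cval u' χ)) := by
            simp only [Finset.mul_sum, ← Finset.sum_sub_distrib]
            refine Finset.sum_congr rfl fun χ _ => ?_
            have : (cdeg χ : ℚ) ≠ 0 := by exact_mod_cast (cdeg_pos χ).ne'
            push_cast
            field_simp
            ring
      _ = 0 := by rw [Finset.sum_sub_distrib, Finset.sum_sub_distrib, z1, z2, z3]; ring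
  rw [e2]
  field_simp at e1 ⊢
  linear_combination e1

theorem forms (S : Setup H T e) {F : Wr → ℤ} (hF : F ∈ dTables) {u u' : G} (hu : u * u = 1)
    (hu' : u' * u' = 1) {P Q : Wr → Bool} (hP : ∀ h : H, IsConj u (h : G) ↔ P (e h) = true)
    (hQ : ∀ h : H, IsConj u' (h : G) ↔ Q (e h) = true) {m11 m12 m22 : ℤ}
    (h11 : pairD P P F = 36 * m11) (h12 : pairD P Q F = 36 * m12) (h22 : pairD Q Q F = 36 * m22) :
    Arith.Forms cdeg (coef (fn e F)) (fun χ : IrrCharacter G => cval u χ - cdeg χ)
      (fun χ => cval u' χ - cdeg χ) (Nat.card {x : G // IsConj u x} : ℚ)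
      (Nat.card {x : G // IsConj u' x} : ℚ) ((Nat.card G : ℚ) / 2) m11 m12 m22 := by
  refine ⟨?_, ?_, ?_⟩
  · rw [S.pairs hF hu hu P P hP hP, h11]; push_cast; ring
  · rw [S.pairs hF hu hu' P Q hP hQ, h12]; push_cast; ring
  · rw [S.pairs hF hu' hu' Q Q hQ hQ, h22]; push_cast; ring

theorem base (S : Setup H T e) (hs : IsSimpleGroup G) :
    Arith.Base (CT.trivIrr G) cdeg (coef (fn e tE)) (coef (fn e tE')) (coef (fn e tF))
      (coef (fn e tF')) := by
  classical
  have mE : tE ∈ dTables := by simp [dTables]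
  have mE' : tE' ∈ dTables := by simp [dTables]
  have mF : tF ∈ dTables := by simp [dTables]
  have mF' : tF' ∈ dTables := by simp [dTables]
  obtain ⟨n1, n2, n3, n4, o1, o2, o3, o4, d1, d2, d3, d4, d5, d6⟩ := dotD_values
  have q1 := S.dot mE mE; have q2 := S.dot mE' mE'; have q3 := S.dot mF mF
  have q4 := S.dot mF' mF'
  have t1 := S.dot_one mE; have t2 := S.dot_one mE'; have t3 := S.dot_one mF
  have t4 := S.dot_one mF'
  have e1 := S.dot mE mE'; have e2 := S.dot mE mF; have e3 := S.dot mE mF'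
  have e4 := S.dot mE' mF; have e5 := S.dot mE' mF'; have e6 := S.dot mF mF'
  have comm : ∀ f g : IrrCharacter G → ℤ, ∑ k, f k * g k = ∑ k, g k * f k := fun f g =>
    Finset.sum_congr rfl fun _ _ => mul_comm _ _
  refine ⟨cdeg_pos, cdeg_triv, fun χ hχ h1 => ?_, ⟨by omega, coef_deg (S.good mE)⟩,
    ⟨by omega, coef_deg (S.good mE')⟩, ⟨by omega, coef_deg (S.good mF)⟩,
    ⟨by omega, coef_deg (S.good mF')⟩, by omega, by omega, by omega, by omega,
    by rw [comm]; omega, by rw [comm]; omega, by rw [comm]; omega, by omega,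
    by rw [comm]; omega, by rw [comm]; omega, S.nine⟩
  obtain ⟨lam, hlam⟩ := exists_hom χ h1
  rcases hs.eq_bot_or_eq_top_of_normal lam.ker inferInstance with h | h
  · have hinj := (MonoidHom.ker_eq_bot_iff lam).mp h
    obtain ⟨a, ea⟩ := e.surjective rA
    obtain ⟨b, eb⟩ := e.surjective rT
    refine wr_noncomm ?_
    rw [← ea, ← eb, ← map_mul, ← map_mul]
    exact congrArg e (Subtype.ext (hinj (by simp only [Subgroup.coe_mul, map_mul, mul_comm])))
  · refine hχ (Subtype.ext (funext fun g => ?_))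
    have : lam g = 1 := MonoidHom.mem_ker.mp (h ▸ Subgroup.mem_top g)
    rw [hlam]
    simp [this]

theorem valu (S : Setup H T e) (hs : IsSimpleGroup G) {u : G} (hu : u * u = 1) (hu1 : u ≠ 1) :
    Arith.Val (CT.trivIrr G) (coef (fn e tE)) (coef (fn e tE')) (coef (fn e tF))
      (coef (fn e tF')) (fun χ => cval u χ - cdeg χ) := by
  classical
  have key : ∀ {F : Wr → ℤ}, F ∈ dTables →
      ∑ χ : IrrCharacter G, coef (fn e F) χ * (cval u χ - cdeg χ) = 0 := fun hF => by
    simp only [mul_sub, Finset.sum_sub_distrib, coef_val (S.good hF) hu, coef_deg (S.good hF),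
      sub_zero]
  refine ⟨by simp [cval_triv, cdeg_triv], fun χ hχ h => ?_, key (by simp [dTables]),
    key (by simp [dTables]), key (by simp [dTables]), key (by simp [dTables])⟩
  have hmem : u ∈ CT.kerChar (χ : G → ℂ) := (CT.mem_kerChar_iff (CT.isCharacter_of_isIrr χ.2)).mpr
    (by rw [cval_eq hu, cdeg_eq, sub_eq_zero.mp h])
  haveI : (CT.kerChar (χ : G → ℂ)).Normal := ⟨fun n hn g x => by
    have := hn (g⁻¹ * x * g)
    rw [show x * (g * n * g⁻¹) = g * (g⁻¹ * x * g * n) * g⁻¹ by group,
      CT.isClassFunction_of_isIrr χ.2, this]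
    conv_lhs => rw [← CT.isClassFunction_of_isIrr χ.2 (g⁻¹ * x * g) g]
    congr 1
    group⟩
  rcases hs.eq_bot_or_eq_top_of_normal (CT.kerChar (χ : G → ℂ)) inferInstance with hb | ht
  · rw [hb, Subgroup.mem_bot] at hmem
    exact hu1 hmem
  · have hval : ∀ g, (χ : G → ℂ) g = (χ : G → ℂ) 1 := fun g =>
      (CT.mem_kerChar_iff (CT.isCharacter_of_isIrr χ.2)).mp (ht ▸ Subgroup.mem_top g)
    have h0 := CT.irr_inner_subtype χ (CT.trivIrr G)
    rw [if_neg hχ, classInner] at h0
    simp only [hval, CT.trivIrr_apply, map_one, mul_one, Finset.sum_const, Finset.card_univ,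
      nsmul_eq_mul, cdeg_eq] at h0
    have := cdeg_pos χ
    simp [Nat.card_eq_fintype_card, this.ne'] at h0

theorem typ_of_conj (S : Setup H T e) {u : G} {h : H} (hu : u * u = 1) (hu1 : u ≠ 1)
    (hc : IsConj u (h : G)) : (tyA (e h) || tyT (e h) || tyC (e h)) = true := by
  obtain ⟨c, hc⟩ := isConj_iff.mp hc
  refine types_of_invol _ ?_ ?_
  · rw [← map_mul, ← map_one e]
    refine congrArg e (Subtype.ext ?_)
    show (h : G) * h = 1
    rw [← hc, show c * u * c⁻¹ * (c * u * c⁻¹) = c * (u * u) * c⁻¹ by group, hu, mul_one,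
      mul_inv_cancel]
  · intro he
    rw [← map_one e] at he
    have h1 := e.injective he
    rw [h1, Subgroup.coe_one, conj_eq_one_iff] at hc
    exact hu1 hc

theorem not_simple (S : Setup H T e) : ¬ IsSimpleGroup G := by
  intro hs
  classical
  obtain ⟨-, -, -, -, -, -, -, -, qA, qT, qC, nA, nT, nC, yA, yT, yC⟩ := fusion_facts
  obtain ⟨a, ea⟩ := e.surjective rA
  obtain ⟨b, eb⟩ := e.surjective rT
  obtain ⟨c, ec⟩ := e.surjective rC
  have sq : ∀ {x : H} {r : Wr}, e x = r → r * r = 1 → (x : G) * x = 1 := fun hx hr =>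
    congrArg Subtype.val (show _ * _ = (1 : H) from e.injective (by rw [map_mul, hx, hr, map_one]))
  have ne : ∀ {x : H} {r : Wr}, e x = r → r ≠ 1 → (x : G) ≠ 1 := fun hx hr h => hr (by
    rw [← hx, show _ = (1 : H) from Subtype.ext h, map_one])
  have hua := sq ea qA
  have hub := sq eb qT
  have hAT := S.not_conj_AT ea eb
  have cA : ∀ {h : H}, tyA (e h) = true → IsConj (a : G) (h : G) := fun h' =>
    S.conj_of ea ((ty_conj _).1 h')
  have cT : ∀ {h : H}, tyT (e h) = true → IsConj (b : G) (h : G) := fun h' =>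
    S.conj_of eb ((ty_conj _).2.1 h')
  have cC : ∀ {h : H}, tyC (e h) = true → IsConj (c : G) (h : G) := fun h' =>
    S.conj_of ec ((ty_conj _).2.2 h')
  have PA : ¬ IsConj (a : G) (c : G) → ∀ h : H, IsConj (a : G) (h : G) ↔ tyA (e h) = true := by
    intro hac h
    refine ⟨fun hc => ?_, cA⟩
    have := S.typ_of_conj hua (ne ea nA) hc
    simp only [Bool.or_eq_true] at this
    rcases this with (x | y) | z
    · exact x
    · exact absurd (hc.trans (cT y).symm) hAT
    · exact absurd (hc.trans (cC z).symm) hac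
  have PT : ¬ IsConj (b : G) (c : G) → ∀ h : H, IsConj (b : G) (h : G) ↔ tyT (e h) = true := by
    intro hbc h
    refine ⟨fun hc => ?_, cT⟩
    have := S.typ_of_conj hub (ne eb nT) hc
    simp only [Bool.or_eq_true] at this
    rcases this with (x | y) | z
    · exact absurd ((cA x).trans hc.symm) hAT
    · exact y
    · exact absurd (hc.trans (cC z).symm) hbc
  have PAC : IsConj (a : G) (c : G) →
      ∀ h : H, IsConj (a : G) (h : G) ↔ (tyA (e h) || tyC (e h)) = true := by
    intro hac h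
    refine ⟨fun hc => ?_, fun h' => ?_⟩
    · have := S.typ_of_conj hua (ne ea nA) hc
      simp only [Bool.or_eq_true] at this ⊢
      rcases this with (x | y) | z
      · exact Or.inl x
      · exact absurd (hc.trans (cT y).symm) hAT
      · exact Or.inr z
    · simp only [Bool.or_eq_true] at h'
      rcases h' with x | z
      · exact cA x
      · exact hac.trans (cC z)
  have PTC : IsConj (b : G) (c : G) →
      ∀ h : H, IsConj (b : G) (h : G) ↔ (tyT (e h) || tyC (e h)) = true := by
    intro hbc h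
    refine ⟨fun hc => ?_, fun h' => ?_⟩
    · have := S.typ_of_conj hub (ne eb nT) hc
      simp only [Bool.or_eq_true] at this ⊢
      rcases this with (x | y) | z
      · exact absurd ((cA x).trans hc.symm) hAT
      · exact Or.inl y
      · exact Or.inr z
    · simp only [Bool.or_eq_true] at h'
      rcases h' with y | z
      · exact cT y
      · exact hbc.trans (cC z)
  have mE : tE ∈ dTables := by simp [dTables]
  have mE' : tE' ∈ dTables := by simp [dTables]
  have mF : tF ∈ dTables := by simp [dTables]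
  have mF' : tF' ∈ dTables := by simp [dTables]
  have B := S.base hs
  have Va := S.valu hs hua (ne ea nA)
  have Vb := S.valu hs hub (ne eb nT)
  have cu : ∀ χ : IrrCharacter G, (cdeg χ + (cval (a : G) χ - cdeg χ) -
      (coef (fn e tE) χ - coef (fn e tE') χ)) % 3 = 0 := fun χ =>
    S.three_of isGen_tPhiA mE mE' (fun w => (rho_decomp w).2.1) card_types.1
      (fun w h => (ty_conj w).1 h) ea hua χ
  have cv : ∀ χ : IrrCharacter G, (cdeg χ + (cval (b : G) χ - cdeg χ) -
      (coef (fn e tF) χ - coef (fn e tF') χ)) % 3 = 0 := fun χ =>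
    S.three_of isGen_tPhiT mF mF' (fun w => (rho_decomp w).2.2) card_types.2
      (fun w h => (ty_conj w).2.1 h) eb hub χ
  have hg : (Nat.card G : ℚ) / 2 ≠ 0 :=
    div_ne_zero (Nat.cast_ne_zero.mpr Nat.card_pos.ne') two_ne_zero
  have hK : ∀ u : G, (Nat.card {x : G // IsConj u x} : ℚ) ≠ 0 := fun u => by
    haveI : Nonempty {x : G // IsConj u x} := ⟨⟨u, IsConj.refl u⟩⟩
    exact Nat.cast_ne_zero.mpr Nat.card_pos.ne'
  by_cases hac : IsConj (a : G) (c : G)
  · have hbc : ¬ IsConj (b : G) (c : G) := fun h => hAT (hac.trans h.symm)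
    obtain ⟨p1, p2, p3, p4, p5, p6, p7, p8⟩ := pairD_fused'
    obtain ⟨-, -, -, -, -, -, -, -, i1, i2, i3, i4⟩ := pairD_iso
    exact Arith.no_caseB B.swap Vb.swap Va.swap cv cu (hK _) hg
      (by simpa only [Int.cast_one, Int.cast_zero, Int.cast_neg, Int.cast_ofNat] using S.forms mF hub hua (Q := fun w => tyA w || tyC w) (PT hbc) (PAC hac) (m11 := 1) (m12 := 3) (m22 := 11)
            (by rw [i3]; norm_num) (by rw [p1]; norm_num) (by rw [p5]; norm_num))
      (by simpa only [Int.cast_one, Int.cast_zero, Int.cast_neg, Int.cast_ofNat] using S.forms mF' hub hua (Q := fun w => tyA w || tyC w) (PT hbc) (PAC hac) (m11 := 1) (m12 := -3) (m22 := 11)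
            (by rw [i4]; norm_num) (by rw [p2]; norm_num) (by rw [p6]; norm_num))
      (by simpa only [Int.cast_one, Int.cast_zero, Int.cast_neg, Int.cast_ofNat] using S.forms mE hub hua (Q := fun w => tyA w || tyC w) (PT hbc) (PAC hac) (m11 := 2) (m12 := 0) (m22 := 16)
            (by rw [i1]; norm_num) (by rw [p3]; norm_num) (by rw [p7]; norm_num))
      (by simpa only [Int.cast_one, Int.cast_zero, Int.cast_neg, Int.cast_ofNat] using S.forms mE' hub hua (Q := fun w => tyA w || tyC w) (PT hbc) (PAC hac) (m11 := 2) (m12 := 0) (m22 := 4)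
            (by rw [i2]; norm_num) (by rw [p4]; norm_num) (by rw [p8]; norm_num))
  · by_cases hbc : IsConj (b : G) (c : G)
    · obtain ⟨p1, p2, p3, p4, p5, p6, p7, p8⟩ := pairD_fused
      obtain ⟨i1, i2, i3, i4, -⟩ := pairD_iso
      exact Arith.no_caseB B Va Vb cu cv (hK _) hg
        (by simpa only [Int.cast_one, Int.cast_zero, Int.cast_neg, Int.cast_ofNat] using S.forms mE hua hub (Q := fun w => tyT w || tyC w) (PA hac) (PTC hbc) (m11 := 1) (m12 := 3) (m22 := 11)
              (by rw [i1]; norm_num) (by rw [p1]; norm_num) (by rw [p5]; norm_num))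
        (by simpa only [Int.cast_one, Int.cast_zero, Int.cast_neg, Int.cast_ofNat] using S.forms mE' hua hub (Q := fun w => tyT w || tyC w) (PA hac) (PTC hbc) (m11 := 1) (m12 := -3) (m22 := 11)
              (by rw [i2]; norm_num) (by rw [p2]; norm_num) (by rw [p6]; norm_num))
        (by simpa only [Int.cast_one, Int.cast_zero, Int.cast_neg, Int.cast_ofNat] using S.forms mF hua hub (Q := fun w => tyT w || tyC w) (PA hac) (PTC hbc) (m11 := 2) (m12 := 0) (m22 := 16)
              (by rw [i3]; norm_num) (by rw [p3]; norm_num) (by rw [p7]; norm_num))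
        (by simpa only [Int.cast_one, Int.cast_zero, Int.cast_neg, Int.cast_ofNat] using S.forms mF' hua hub (Q := fun w => tyT w || tyC w) (PA hac) (PTC hbc) (m11 := 2) (m12 := 0) (m22 := 4)
              (by rw [i4]; norm_num) (by rw [p4]; norm_num) (by rw [p8]; norm_num))
    · obtain ⟨i1, i2, i3, i4, i5, i6, i7, i8, i9, i10, i11, i12⟩ := pairD_iso
      exact Arith.no_caseA B Va Vb (hK _) hg
        (by simpa only [Int.cast_one, Int.cast_zero, Int.cast_neg, Int.cast_ofNat] using S.forms mE hua hub (PA hac) (PT hbc) (m11 := 1) (m12 := 0) (m22 := 2)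
              (by rw [i1]; norm_num) (by rw [i5]; norm_num) (by rw [i9]; norm_num))
        (by simpa only [Int.cast_one, Int.cast_zero, Int.cast_neg, Int.cast_ofNat] using S.forms mE' hua hub (PA hac) (PT hbc) (m11 := 1) (m12 := 0) (m22 := 2)
              (by rw [i2]; norm_num) (by rw [i6]; norm_num) (by rw [i10]; norm_num))
        (by simpa only [Int.cast_one, Int.cast_zero, Int.cast_neg, Int.cast_ofNat] using S.forms mF hua hub (PA hac) (PT hbc) (m11 := 2) (m12 := 0) (m22 := 1)
              (by rw [i3]; norm_num) (by rw [i7]; norm_num) (by rw [i11]; norm_num))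
        (by simpa only [Int.cast_one, Int.cast_zero, Int.cast_neg, Int.cast_ofNat] using S.forms mF' hua hub (PA hac) (PT hbc) (m11 := 2) (m12 := 0) (m22 := 1)
              (by rw [i4]; norm_num) (by rw [i8]; norm_num) (by rw [i12]; norm_num))

end Setup

end Cfsg.Agent.NineD8
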